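import Mathlib

/-!
# Groups transitive on the non-identity elements of an elementary abelian group

`G` acts on the commutative group `U` by automorphisms.
* a normal abelian subgroup of a faithful group which is transitive on `U∖1` is semiregular on it;
* a semiregular pair of commuting elements of order `q` forces `u ^ q = 1`;
* a `q`-group fixes a line when `q` does not divide the number of lines;
* an elementary abelian 2-group of order `2 ^ m` moves at least a factor `p ^ m`.
-/

set_option autoImplicit false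
set_option linter.style.haveILetI false

namespace Cfsg.Agent.Invol.TripleNormal

open MulAction Subgroup

variable {G : Type*} [Group G] {U : Type*} [CommGroup U] [MulDistribMulAction G U]

variable (G U) in
/-- Transitivity on the non-identity elements. -/
def TransNe : Prop := ∀ u v : U, u ≠ 1 → v ≠ 1 → ∃ g : G, g • u = v

variable (U) in
/-- The elements fixed by a subgroup. -/
def fixU (A : Subgroup G) : Subgroup U where
  carrier := {u | ∀ a ∈ A, a • u = u}
  one_mem' := fun a _ => smul_one a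
  mul_mem' := fun {u v} hu hv a ha => by rw [smul_mul', hu a ha, hv a ha]
  inv_mem' := fun {u} hu a ha => by rw [smul_inv', hu a ha]

theorem mem_fixU {A : Subgroup G} {u : U} : u ∈ fixU U A ↔ ∀ a ∈ A, a • u = u := Iff.rfl

theorem fixU_anti {A B : Subgroup G} (h : A ≤ B) : fixU U B ≤ fixU U A := fun _ hu a ha => hu a (h ha)

theorem card_fixU_conj (A : Subgroup G) (g : G) :
    Nat.card (fixU U (A.map (MulAut.conj g).toMonoidHom)) = Nat.card (fixU U A) := by
  refine Nat.card_congr
    { toFun := fun u => ⟨g⁻¹ • (u : U), fun a ha => ?_⟩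
      invFun := fun u => ⟨g • (u : U), ?_⟩
      left_inv := fun u => Subtype.ext (smul_inv_smul g (u : U))
      right_inv := fun u => Subtype.ext (inv_smul_smul g (u : U)) }
  · have h := u.2 (g * a * g⁻¹) ⟨a, ha, rfl⟩
    rw [mul_smul, mul_smul] at h
    exact smul_left_cancel g (h.trans (smul_inv_smul g (u : U)).symm)
  · rintro _ ⟨a, ha, rfl⟩
    show (g * a * g⁻¹) • g • (u : U) = g • (u : U)
    rw [mul_smul, mul_smul, inv_smul_smul, u.2 a ha]

theorem conj_fix {A : Subgroup G} [hA : A.Normal] {g : G} {u : U} (h : ∀ a ∈ A, a • u = u) :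
    ∀ a ∈ A, a • g • u = g • u := fun a ha => by
  have h1 := h _ (hA.conj_mem a ha g⁻¹)
  rw [inv_inv, mul_smul, mul_smul] at h1
  exact inv_smul_eq_iff.1 h1

/-- A normal subgroup of a transitive faithful group fixing a non-identity element is trivial. -/
theorem eq_bot_of_fixed [FaithfulSMul G U] (hT : TransNe G U) {A : Subgroup G} [A.Normal] {u : U}
    (hu : u ≠ 1) (h : ∀ a ∈ A, a • u = u) : A = ⊥ := by
  refine (Subgroup.eq_bot_iff_forall _).2 fun a ha => eq_of_smul_eq_smul (α := U) fun v => ?_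
  rw [one_smul]
  rcases eq_or_ne v 1 with rfl | hv
  · exact smul_one a
  obtain ⟨g, rfl⟩ := hT u v hu hv
  exact conj_fix h a ha

theorem card_stab_eq (hT : TransNe G U) {A : Subgroup G} [hA : A.Normal] {u v : U} (hu : u ≠ 1) (hv : v ≠ 1) :
    Nat.card (A ⊓ stabilizer G u : Subgroup G) = Nat.card (A ⊓ stabilizer G v : Subgroup G) := by
  obtain ⟨g, rfl⟩ := hT u v hu hv
  refine Nat.card_congr
    { toFun := fun a => ⟨g * (a : G) * g⁻¹, hA.conj_mem _ a.2.1 g, ?_⟩
      invFun := fun a => ⟨g⁻¹ * (a : G) * g, by simpa using hA.conj_mem _ a.2.1 g⁻¹, ?_⟩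
      left_inv := fun a => Subtype.ext (by simp [mul_assoc])
      right_inv := fun a => Subtype.ext (by simp [mul_assoc]) }
  · show (g * (a : G) * g⁻¹) • g • u = g • u
    rw [mul_smul, mul_smul, inv_smul_smul, show (a : G) • u = u from a.2.2]
  · show (g⁻¹ * (a : G) * g) • u = u
    rw [mul_smul, mul_smul, show (a : G) • g • u = g • u from a.2.2, inv_smul_smul]

/-- A normal abelian subgroup of a faithful group transitive on `U∖1` is semiregular there. -/
theorem semiregular_of_comm [Finite G] [FaithfulSMul G U] (hT : TransNe G U) {A : Subgroup G} [A.Normal]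
    (hab : ∀ x ∈ A, ∀ y ∈ A, Commute x y) {a : G} (ha : a ∈ A) {u : U} (hu : u ≠ 1) (h : a • u = u) :
    a = 1 := by
  by_contra ha1
  let St : U → Subgroup G := fun v => A ⊓ stabilizer G v
  have hne : ∃ v : U, ∃ x ∈ St u, x • v ≠ v := by
    by_contra hc
    push Not at hc
    exact ha1 (eq_of_smul_eq_smul fun v => (hc v a ⟨ha, h⟩).trans (one_smul G v).symm)
  obtain ⟨v, x, hx, hxv⟩ := hne
  have hv : v ≠ 1 := fun e => hxv (by rw [e, smul_one])
  have hw : u * v ≠ 1 := fun e => hxv (by
    rw [eq_inv_of_mul_eq_one_right e, smul_inv', show x • u = u from hx.2])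
  have hnot : ∀ K : Subgroup G, St u ≤ K → St v ≤ K → Nat.card K ≤ Nat.card (St u) → False := by
    intro K h1 h2 h3
    have e1 := eq_of_le_of_card_ge h1 h3
    have e2 : St v = St u := eq_of_le_of_card_ge (e1 ▸ h2) (card_stab_eq hT hu hv).le
    exact hxv (e2.ge hx).2
  have key : ∀ y ∈ St (u * v), y • u = u := by
    intro y hy
    by_contra hyu
    set d := (y • u) / u with hd
    have hd1 : d ≠ 1 := fun e => hyu (div_eq_one.1 e)
    have hd' : d = v / (y • v) := by
      have e : (y • u) * (y • v) = u * v := by rw [← smul_mul']; exact hy.2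
      rw [hd, div_eq_div_iff_mul_eq_mul]
      rw [e, mul_comm]
    refine hnot (St d) (fun z hz => ⟨hz.1, ?_⟩) (fun z hz => ⟨hz.1, ?_⟩) (card_stab_eq hT hu hd1).ge
    · show z • d = d
      rw [hd, smul_div', ← mul_smul, (hab z hz.1 y hy.1).eq, mul_smul, show z • u = u from hz.2]
    · show z • d = d
      rw [hd', smul_div', ← mul_smul, (hab z hz.1 y hy.1).eq, mul_smul, show z • v = v from hz.2]
  have hle : St (u * v) ≤ St u := fun y hy => ⟨hy.1, key y hy⟩
  have hle' : St (u * v) ≤ St v := fun y hy => ⟨hy.1, by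
    have e : (y • u) * (y • v) = u * v := by rw [← smul_mul']; exact hy.2
    rw [key y hy] at e
    exact mul_left_cancel e⟩
  have e1 := eq_of_le_of_card_ge hle (card_stab_eq hT hu hw).le
  exact hnot (St u) le_rfl ((eq_of_le_of_card_ge hle' (card_stab_eq hT hv hw).le).ge.trans e1.le) le_rfl

/-- The product of the translates of `u` under the powers of `g`. -/
def orbProd (q : ℕ) (g : G) (u : U) : U := ∏ k ∈ Finset.range q, g ^ k • u

theorem smul_orbProd {q : ℕ} {g : G} (hg : g ^ q = 1) (u : U) : g • orbProd q g u = orbProd q g u := by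
  have h1 : (∏ k ∈ Finset.range q, g ^ (k + 1) • u) * g ^ 0 • u =
      (∏ k ∈ Finset.range q, g ^ k • u) * g ^ q • u := by
    rw [← Finset.prod_range_succ' (fun k => g ^ k • u) q, Finset.prod_range_succ]
  rw [pow_zero, hg, mul_left_inj] at h1
  rw [orbProd, Finset.smul_prod']
  simpa only [← mul_smul, ← pow_succ'] using h1

theorem orbProd_mem {V : Subgroup U} {q : ℕ} {g : G} {u : U} (hu : ∀ k : ℕ, g ^ k • u ∈ V) : orbProd q g u ∈ V :=
  prod_mem fun k _ => hu k

/-- If all cyclic subgroups of `⟨x, y⟩` have trivial orbit products at `u`, then `u ^ q = 1`. -/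
theorem pow_eq_one_of_pair {q : ℕ} (hq : q.Prime) {x y : G} (hxy : Commute x y) {u : U}
    (h1 : ∀ j : ℕ, orbProd q (x * y ^ j) u = 1) (h2 : ∀ k : ℕ, ¬ q ∣ k → orbProd q (y ^ k) u = 1) :
    u ^ q = 1 := by
  have h : ∏ j ∈ Finset.range q, ∏ k ∈ Finset.range q, (x * y ^ j) ^ k • u = 1 :=
    Finset.prod_eq_one fun j _ => h1 j
  rw [Finset.prod_comm] at h
  rw [Finset.prod_eq_single 0] at h
  · simpa using h
  · intro k hk hk0
    have hkq : ¬ q ∣ k := fun hd => hk0 (Nat.eq_zero_of_dvd_of_lt hd (Finset.mem_range.1 hk))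
    calc ∏ j ∈ Finset.range q, (x * y ^ j) ^ k • u
        = ∏ j ∈ Finset.range q, x ^ k • ((y ^ k) ^ j • u) := Finset.prod_congr rfl fun j _ => by
          rw [(hxy.pow_right j).mul_pow, mul_smul, ← pow_mul, ← pow_mul, mul_comm j k]
      _ = x ^ k • orbProd q (y ^ k) u := Finset.smul_prod'.symm
      _ = 1 := by rw [h2 k hkq, smul_one]
  · intro h0
    exact absurd (Finset.mem_range.2 hq.pos) h0

section Exponent

variable {p : ℕ} (hp : p.Prime) (hex : ∀ u : U, u ^ p = 1)
include hp hex

theorem eq_one_of_pow {n : ℕ} (hn : ¬ p ∣ n) {u : U} (hu : u ^ n = 1) : u = 1 := by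
  have h := Nat.dvd_gcd (orderOf_dvd_of_pow_eq_one (hex u)) (orderOf_dvd_of_pow_eq_one hu)
  rw [(hp.coprime_iff_not_dvd.2 hn : Nat.gcd p n = 1), Nat.dvd_one, orderOf_eq_one_iff] at h
  exact h

omit hp hex in
/-- An element fixing only the identity has trivial orbit products. -/
theorem orbProd_eq_one {q : ℕ} {g : G} (hg : g ^ q = 1) (hfpf : ∀ u : U, g • u = u → u = 1) (u : U) :
    orbProd q g u = 1 := hfpf _ (smul_orbProd hg u)

/-- In a semiregular commutative subgroup the elements of prime order `q` lie in one subgroup of order `q`. -/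
theorem mem_zpowers_of_semiregular {q : ℕ} (hq : q.Prime) (hqp : q ≠ p) {A : Subgroup G}
    (hab : ∀ x ∈ A, ∀ y ∈ A, Commute x y) (hreg : ∀ a ∈ A, a ≠ 1 → ∀ u : U, a • u = u → u = 1)
    [Nontrivial U] {x y : G} (hx : x ∈ A) (hy : y ∈ A) (hxq : x ^ q = 1) (hyq : y ^ q = 1) (hy1 : y ≠ 1) :
    x ∈ Subgroup.zpowers y := by
  by_contra hc
  obtain ⟨u, hu⟩ := exists_ne (1 : U)
  refine hu (eq_one_of_pow hp hex (fun hd => hqp.symm ((Nat.prime_dvd_prime_iff_eq hp hq).1 hd)) (pow_eq_one_of_pair hq (hab x hx y hy) (fun j => ?_) (fun k hk => ?_)))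
  · refine orbProd_eq_one (by rw [(hab x hx _ (pow_mem hy j)).mul_pow, hxq, ← pow_mul, mul_comm, pow_mul, hyq,
      one_pow, one_mul]) (hreg _ (mul_mem hx (pow_mem hy j)) fun e => hc ?_) u
    rw [eq_inv_of_mul_eq_one_left e]
    exact inv_mem (pow_mem (Subgroup.mem_zpowers y) j)
  · refine orbProd_eq_one (by rw [← pow_mul, mul_comm, pow_mul, hyq, one_pow]) (hreg _ (pow_mem hy k)
      fun e => hk ?_) u
    have h1 := orderOf_dvd_of_pow_eq_one e
    rwa [(hq.eq_one_or_self_of_dvd _ (orderOf_dvd_of_pow_eq_one hyq)).resolve_left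
      (fun e' => hy1 (orderOf_eq_one_iff.1 e'))] at h1

end Exponent

section Lines

open scoped Pointwise

/-- A `q`-group fixes a line when `q` does not divide the number of lines, and its derived group fixes that
line pointwise. -/
theorem exists_fixed_of_lines [Finite U] {p q : ℕ} [hq : Fact q.Prime] (hp : p.Prime) (hex : ∀ u : U, u ^ p = 1)
    (hL : ∀ L : ℕ, L * (p - 1) + 1 = Nat.card U → ¬ q ∣ L) (T : Subgroup G) [Finite T] (hT : IsPGroup q T) :
    ∃ v : U, v ≠ 1 ∧ ∀ g ∈ ⁅T, T⁆, g • v = v := by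
  classical
  haveI := Fintype.ofFinite U
  let Ln := {L : Subgroup U // Nat.card L = p}
  have hcardz : ∀ v : U, v ≠ 1 → Nat.card (Subgroup.zpowers v) = p := fun v hv => by
    haveI := Fact.mk hp
    rw [Nat.card_zpowers]; exact orderOf_eq_prime (hex v) hv
  have huniq : ∀ L : Ln, ∀ v : U, v ≠ 1 → v ∈ L.1 → Subgroup.zpowers v = L.1 := fun L v hv hm =>
    eq_of_le_of_card_ge (Subgroup.zpowers_le.2 hm) (by rw [hcardz v hv, L.2])
  have e : {v : U // v ≠ 1} ≃ Σ L : Ln, {v : L.1 // v ≠ 1} :=
    { toFun := fun v => ⟨⟨Subgroup.zpowers v.1, hcardz _ v.2⟩, ⟨v.1, Subgroup.mem_zpowers _⟩,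
        fun e => v.2 (congrArg Subtype.val e)⟩
      invFun := fun s => ⟨(s.2.1 : U), fun e => s.2.2 (Subtype.ext e)⟩
      left_inv := fun v => rfl
      right_inv := by
        rintro ⟨⟨L, hL'⟩, ⟨v, hv⟩, hv1⟩
        obtain rfl : Subgroup.zpowers v = L := huniq ⟨L, hL'⟩ v (fun e => hv1 (Subtype.ext e)) hv
        rfl }
  haveI := Fintype.ofFinite Ln
  have hfib : ∀ L : Ln, Nat.card {v : L.1 // v ≠ 1} = p - 1 := fun L => by
    have h := L.2
    rw [← Nat.card_congr (Equiv.optionSubtypeNe (1 : L.1)), Finite.card_option] at h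
    omega
  have hcount : Nat.card Ln * (p - 1) + 1 = Nat.card U := by
    rw [← Nat.card_congr (Equiv.optionSubtypeNe (1 : U)), Finite.card_option, Nat.card_congr e, Nat.card_sigma,
      Finset.sum_congr rfl fun L _ => hfib L, Finset.sum_const, smul_eq_mul, Finset.card_univ,
      Nat.card_eq_fintype_card]
  letI : MulAction T Ln :=
    { smul := fun g L => ⟨(g : G) • L.1, (Nat.card_congr (Subgroup.equivSMul (g : G) L.1).toEquiv).symm.trans L.2⟩
      one_smul := fun L => Subtype.ext (one_smul G L.1)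
      mul_smul := fun g h L => Subtype.ext (mul_smul (g : G) (h : G) L.1) }
  obtain ⟨L, hLfix⟩ := hT.nonempty_fixed_point_of_prime_not_dvd_card Ln (hL _ hcount)
  have hfix : ∀ g ∈ T, ∀ v ∈ L.1, g • v ∈ L.1 := fun g hg v hv => by
    have h1 : g • L.1 = L.1 := congrArg Subtype.val (MulAction.mem_fixedPoints.1 hLfix ⟨g, hg⟩)
    exact h1.le (Subgroup.smul_mem_pointwise_smul v g L.1 hv)
  obtain ⟨v, hv, hv1⟩ := L.1.bot_or_exists_ne_one.resolve_left fun e' => by
    have := L.2
    rw [e', Subgroup.card_bot] at this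
    exact hp.one_lt.ne this
  refine ⟨v, hv1, fun g hg => ?_⟩
  have hcom : ∀ g ∈ T, ∀ h ∈ T, ∀ w ∈ L.1, g • h • w = h • g • w := by
    intro g hg h hh w hw
    have hpw : ∀ k ∈ T, ∃ j : ℤ, k • v = v ^ j := fun k hk => by
      have := hfix k hk v hv
      rw [← huniq L v hv1 hv] at this
      exact (Subgroup.mem_zpowers_iff.1 this).imp fun j hj => hj.symm
    obtain ⟨j1, h1⟩ := hpw g hg
    obtain ⟨j2, h2⟩ := hpw h hh
    obtain ⟨j, rfl⟩ := Subgroup.mem_zpowers_iff.1 ((huniq L v hv1 hv).ge hw)
    rw [smul_zpow', smul_zpow', smul_zpow', smul_zpow', h1, h2, smul_zpow', smul_zpow', h1, h2, ← zpow_mul,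
      ← zpow_mul, ← zpow_mul, ← zpow_mul]
    congr 1
    ring
  have hle : ⁅T, T⁆ ≤ stabilizer G v := by
    rw [Subgroup.commutator_le]
    intro g hg h hh
    rw [MulAction.mem_stabilizer_iff, commutatorElement_def, mul_smul, mul_smul, mul_smul,
      hcom g hg h hh _ (hfix _ (inv_mem hg) _ (hfix _ (inv_mem hh) _ hv)), smul_inv_smul, smul_inv_smul]
  exact hle hg

end Lines

/-- An elementary abelian 2-group of order `2 ^ m` acting faithfully moves at least a factor `p ^ m`. -/
theorem pow_mul_card_fixU_le [Finite U] [Finite G] {p : ℕ} (hp : p.Prime) (hp2 : p ≠ 2)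
    (hex : ∀ u : U, u ^ p = 1) : ∀ (m : ℕ) (A : Subgroup G), (∀ a ∈ A, a * a = 1) →
      (∀ a ∈ A, (∀ u : U, a • u = u) → a = 1) → Nat.card A = 2 ^ m →
      p ^ m * Nat.card (fixU U A) ≤ Nat.card U := by
  intro m
  induction m with
  | zero =>
    intro A _ _ _
    rw [pow_zero, one_mul]
    exact Nat.card_le_card_of_injective Subtype.val Subtype.val_injective
  | succ m ih =>
    intro A hsq hfaith hcard
    classical
    have hp2' : ¬ p ∣ 2 := fun hd => hp2 ((Nat.prime_dvd_prime_iff_eq hp Nat.prime_two).1 hd)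
    have hcomm : ∀ a ∈ A, ∀ b ∈ A, a * b = b * a := fun a ha b hb => by
      have hi : ∀ x ∈ A, x⁻¹ = x := fun x hx => inv_eq_of_mul_eq_one_left (hsq x hx)
      have h := hi _ (mul_mem ha hb)
      rw [mul_inv_rev, hi a ha, hi b hb] at h
      exact h.symm
    haveI := Fintype.ofFinite U
    haveI := Fintype.ofFinite G
    let good : U → Finset G := fun v => Finset.univ.filter fun a => a ∈ A ∧ (a • v = v ∨ a • v = v⁻¹)
    obtain ⟨u, hu⟩ : ∃ u : U, u ∉ fixU U A := by
      by_contra hc
      push Not at hc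
      have hbot : A = ⊥ := (Subgroup.eq_bot_iff_forall _).2 fun a ha => hfaith a ha fun v => hc v a ha
      rw [hbot, Subgroup.card_bot] at hcard
      exact (Nat.one_lt_pow (Nat.succ_ne_zero m) one_lt_two).ne hcard
    obtain ⟨w, hw, hwmax⟩ := Finset.exists_max_image (Finset.univ.filter fun v : U => v ∉ fixU U A)
      (fun v => (good v).card) ⟨u, by simpa using hu⟩
    simp only [Finset.mem_filter, Finset.mem_univ, true_and] at hw hwmax
    have hall : ∀ a ∈ A, a • w = w ∨ a • w = w⁻¹ := by
      intro b hb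
      by_contra hc
      push Not at hc
      set w' := w / b • w with hw'
      have hw'1 : w' ≠ 1 := fun e => hc.1 (div_eq_one.1 e).symm
      have hbw : b • w' = w'⁻¹ := by
        rw [hw', smul_div', ← mul_smul, hsq b hb, one_smul, inv_div]
      have hnot : w' ∉ fixU U A := fun hf => hw'1 (eq_one_of_pow hp hex hp2' (by
        have e := hf b hb
        rw [hbw] at e
        rw [sq]
        nth_rewrite 1 [← e]
        exact inv_mul_cancel w'))
      have hsub : good w ⊂ good w' := by
        rw [Finset.ssubset_iff_of_subset]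
        · refine ⟨b, ?_, ?_⟩
          · simp only [good, Finset.mem_filter, Finset.mem_univ, true_and]
            exact ⟨hb, Or.inr hbw⟩
          · simp only [good, Finset.mem_filter, Finset.mem_univ, true_and]
            exact fun h => h.2.elim hc.1 hc.2
        · intro a
          simp only [good, Finset.mem_filter, Finset.mem_univ, true_and]
          rintro ⟨ha, h⟩
          refine ⟨ha, h.imp (fun e => ?_) fun e => ?_⟩ <;>
            rw [hw', smul_div', ← mul_smul, hcomm a ha b hb, mul_smul, e]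
          rw [smul_inv', div_eq_mul_inv, inv_inv, inv_div, div_eq_mul_inv, mul_comm]
      exact absurd (Finset.card_lt_card hsub) (not_lt.2 (hwmax w' hnot))
    obtain ⟨b, hb, hbw⟩ : ∃ b ∈ A, b • w ≠ w := by
      by_contra hc
      push Not at hc
      exact hw hc
    have hbw' : b • w = w⁻¹ := (hall b hb).resolve_left hbw
    set B := A ⊓ stabilizer G w with hB
    have hidx : (B.subgroupOf A).index = 2 := by
      rw [Subgroup.index_eq_two_iff]
      refine ⟨⟨b, hb⟩, fun a => ?_⟩
      have hmem : ∀ c : A, c ∈ B.subgroupOf A ↔ (c : G) • w = w := fun c =>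
        ⟨fun h => h.2, fun h => ⟨c.2, h⟩⟩
      rw [hmem, hmem, Subgroup.coe_mul, mul_smul, hbw', smul_inv']
      rcases hall a a.2 with e | e
      · exact Or.inr ⟨e, fun h => hbw (by rw [e] at h; rw [hbw', h])⟩
      · refine Or.inl ⟨by rw [e, inv_inv], fun h => hbw ?_⟩
        rw [hbw', ← e, h]
    have hcardB : Nat.card B = 2 ^ m := by
      have h := (B.subgroupOf A).card_mul_index
      rw [hidx, hcard, Nat.card_congr (Subgroup.subgroupOfEquivOfLe (inf_le_left : B ≤ A)).toEquiv,
        pow_succ] at h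
      exact Nat.eq_of_mul_eq_mul_right two_pos h
    have hrec := ih B (fun a ha => hsq a ha.1) (fun a ha => hfaith a ha.1) hcardB
    haveI : Fact p.Prime := ⟨hp⟩
    have hP : IsPGroup p (fixU U B) := fun x => ⟨1, Subtype.ext (by
      rw [pow_one, SubmonoidClass.coe_pow]; exact hex _)⟩
    have hle : fixU U A ≤ fixU U B := fixU_anti inf_le_left
    have hwB : w ∈ fixU U B := fun a ha => ha.2
    have hgrow : p * Nat.card (fixU U A) ≤ Nat.card (fixU U B) := by
      have h := ((fixU U A).subgroupOf (fixU U B)).card_mul_index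
      rw [Nat.card_congr (Subgroup.subgroupOfEquivOfLe hle).toEquiv] at h
      obtain ⟨k, hk⟩ := hP.index ((fixU U A).subgroupOf (fixU U B))
      have hk0 : k ≠ 0 := by
        rintro rfl
        rw [pow_zero, Subgroup.index_eq_one, Subgroup.subgroupOf_eq_top] at hk
        exact hw (hk hwB)
      rw [← h, hk, mul_comm (p : ℕ) (Nat.card _)]
      exact Nat.mul_le_mul_left _ (Nat.le_of_dvd (pow_pos hp.pos k) (dvd_pow_self p hk0))
    calc p ^ (m + 1) * Nat.card (fixU U A) = p ^ m * (p * Nat.card (fixU U A)) := by rw [pow_succ]; ring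
      _ ≤ p ^ m * Nat.card (fixU U B) := Nat.mul_le_mul_left _ hgrow
      _ ≤ Nat.card U := hrec

end Cfsg.Agent.Invol.TripleNormal
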