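import Mathlib
import Cfsg.Agent.Lib.Block.Zas.Sharp
import Cfsg.Agent.Lib.Block.RegularNormal
import Cfsg.Agent.S0054

/-!
# A normal subgroup of a triply transitive group: orbits on triples

`H` is doubly transitive, so its orbits on ordered triples correspond to the orbits of `D = H ∩ G_ab` on the
points other than `a, b`; these all have the same size.
-/

set_option autoImplicit false
set_option linter.style.haveILetI false

namespace Cfsg.Agent.Invol.TripleNormal

open MulAction Subgroup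

universe u v

variable {G : Type u} [Group G] {Ω : Type v} [MulAction G Ω]

/-- The hypotheses: `H` normal non-trivial in a triply transitive group of even degree divisible by three. -/
structure TriSetup (H : Subgroup G) (Ω : Type v) [MulAction G Ω] : Prop where
  tri : MulAction.IsMultiplyPretransitive G Ω 3
  normal : H.Normal
  ne : H ≠ ⊥
  fin : Finite Ω
  faithful : FaithfulSMul G Ω
  three : 3 ∣ Nat.card Ω
  big : 3 < Nat.card Ω
  even : Even (Nat.card Ω)

/-- A triple of distinct points. -/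
def mkTriple {x y z : Ω} (hxy : x ≠ y) (hyz : y ≠ z) (hxz : x ≠ z) : Fin 3 ↪ Ω :=
  ⟨![x, y, z], by intro i j h; fin_cases i <;> fin_cases j <;> simp_all⟩

theorem triple_eq (t : Fin 3 ↪ Ω) :
    t = mkTriple (t.injective.ne (by decide : (0 : Fin 3) ≠ 1)) (t.injective.ne (by decide : (1 : Fin 3) ≠ 2))
      (t.injective.ne (by decide : (0 : Fin 3) ≠ 2)) := by
  ext i; fin_cases i <;> rfl

theorem smul_mkTriple (g : G) {x y z x' y' z' : Ω} {hxy : x ≠ y} {hyz : y ≠ z} {hxz : x ≠ z} {hxy' : x' ≠ y'}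
    {hyz' : y' ≠ z'} {hxz' : x' ≠ z'} (h1 : g • x = x') (h2 : g • y = y') (h3 : g • z = z') :
    g • mkTriple hxy hyz hxz = mkTriple hxy' hyz' hxz' := by
  ext i; fin_cases i <;> [exact h1; exact h2; exact h3]

/-- The two-point stabilizer inside `H`. -/
def stabTwo (H : Subgroup G) (a b : Ω) : Subgroup G := H ⊓ (stabilizer G a ⊓ stabilizer G b)

theorem mem_stabTwo {H : Subgroup G} {a b : Ω} {g : G} :
    g ∈ stabTwo H a b ↔ g ∈ H ∧ g • a = a ∧ g • b = b := Iff.rfl

/-- The points other than `a` and `b`. -/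
abbrev Others (a b : Ω) : Type v := {c : Ω // c ≠ a ∧ c ≠ b}

/-- The two-point stabilizer acts on the other points. -/
@[reducible]
def othersAction (H : Subgroup G) (a b : Ω) : MulAction (stabTwo H a b) (Others a b) where
  smul g c := ⟨(g : G) • (c : Ω),
    fun e => c.2.1 (smul_left_cancel (g : G) (e.trans g.2.2.1.symm)),
    fun e => c.2.2 (smul_left_cancel (g : G) (e.trans g.2.2.2.symm))⟩
  one_smul c := Subtype.ext (one_smul G (c : Ω))
  mul_smul g h c := Subtype.ext (mul_smul (g : G) (h : G) (c : Ω))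

/-- The orbits of the two-point stabilizer on the other points. -/
noncomputable def colours (H : Subgroup G) (a b : Ω) : ℕ :=
  letI := othersAction H a b
  Nat.card (orbitRel.Quotient (stabTwo H a b) (Others a b))

namespace TriSetup

variable {H : Subgroup G} (S : TriSetup H Ω)
include S

theorem two : MulAction.IsMultiplyPretransitive G Ω 2 := by
  haveI := S.fin
  haveI := S.tri
  exact MulAction.isMultiplyPretransitive_of_le (n := 3) (by omega) (by have := S.big; omega)

theorem three_trans {x y z x' y' z' : Ω} (hxy : x ≠ y) (hyz : y ≠ z) (hxz : x ≠ z) (hxy' : x' ≠ y')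
    (hyz' : y' ≠ z') (hxz' : x' ≠ z') : ∃ g : G, g • x = x' ∧ g • y = y' ∧ g • z = z' :=
  Block.Zas.three_trans S.tri hxy hyz hxz hxy' hyz' hxz'

theorem exists_pair : ∃ a b : Ω, a ≠ b := by
  haveI := S.fin
  haveI : Nontrivial Ω := Finite.one_lt_card_iff_nontrivial.1 (by have := S.big; omega)
  exact exists_pair_ne Ω

theorem exists_other (a b : Ω) : ∃ c : Ω, c ≠ a ∧ c ≠ b := by
  classical
  haveI := S.fin
  haveI := Fintype.ofFinite Ω
  by_contra hc
  push Not at hc
  have h1 : (Finset.univ : Finset Ω) ⊆ {a, b} := fun c _ => by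
    by_cases e : c = a
    · simp [e]
    · simp [hc c e]
  have h2 := (Finset.card_le_card h1).trans Finset.card_le_two
  rw [Finset.card_univ, ← Nat.card_eq_fintype_card] at h2
  have := S.big; omega

theorem two_trans {x y x' y' : Ω} (hxy : x ≠ y) (hxy' : x' ≠ y') : ∃ g : G, g • x = x' ∧ g • y = y' :=
  (MulAction.is_two_pretransitive_iff.1 S.two) hxy hxy'

theorem trans_H (x y : Ω) : ∃ h ∈ H, h • x = y := by
  haveI := S.faithful
  haveI := S.normal
  haveI : MulAction.IsPreprimitive G Ω := MulAction.isPreprimitive_of_is_two_pretransitive S.two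
  haveI := Cfsg.Agent.Block.transitive_of_normal (G := G) (α := Ω) S.ne
  obtain ⟨h, hh⟩ := MulAction.exists_smul_eq H x y
  exact ⟨h, h.2, hh⟩

variable [Finite G]

theorem stab_ne_bot (a : Ω) : H ⊓ stabilizer G a ≠ ⊥ := by
  intro hbot
  haveI := S.normal
  haveI := S.fin
  haveI : Nonempty Ω := ⟨a⟩
  have htr : MulAction.IsPretransitive H Ω := ⟨fun x y => by
    obtain ⟨h, hh, e⟩ := S.trans_H x y; exact ⟨⟨h, hh⟩, e⟩⟩
  have hreg : ∀ x : Ω, stabilizer H x = ⊥ := fun x => by
    refine (Subgroup.eq_bot_iff_forall _).2 fun g hg => Subtype.ext ?_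
    obtain ⟨k, hk, hka⟩ := S.trans_H x a
    have h1 : k * (g : G) * k⁻¹ ∈ H ⊓ stabilizer G a := by
      refine mem_inf.2 ⟨mul_mem (mul_mem hk g.2) (inv_mem hk), ?_⟩
      rw [MulAction.mem_stabilizer_iff, mul_smul, mul_smul, ← hka, inv_smul_smul]
      exact congrArg (k • ·) hg
    rw [hbot, mem_bot, conj_eq_one_iff] at h1
    exact h1
  obtain ⟨-, p, hp, hpow⟩ := S0054.result S.two H htr hreg
  haveI := Fact.mk hp
  obtain ⟨k, hk⟩ := (show IsPGroup p H from fun x => ⟨1, Subtype.ext (by
    rw [pow_one, SubmonoidClass.coe_pow]; exact hpow _ x.2)⟩).exists_card_eq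
  have hcard : Nat.card Ω = Nat.card H := by
    refine (Nat.card_congr (Equiv.ofBijective (fun h : H => (h : G) • a) ⟨fun h k e => ?_, fun y => ?_⟩)).symm
    · have : k⁻¹ * h ∈ stabilizer H a := by
        rw [MulAction.mem_stabilizer_iff, mul_smul, inv_smul_eq_iff]; exact e
      rw [hreg a, mem_bot, inv_mul_eq_one] at this
      exact this.symm
    · obtain ⟨h, hh, e⟩ := S.trans_H a y
      exact ⟨⟨h, hh⟩, e⟩
  have h3 := S.three
  rw [hcard, hk] at h3
  have hp3 : 3 = p := (Nat.prime_dvd_prime_iff_eq Nat.prime_three hp).1 (Nat.prime_three.dvd_of_dvd_pow h3)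
  have he := S.even
  rw [hcard, hk, ← hp3, Nat.even_pow] at he
  exact absurd he.1 (by decide)

theorem trans_stab {a x y : Ω} (hx : x ≠ a) (hy : y ≠ a) : ∃ h ∈ H, h • a = a ∧ h • x = y := by
  haveI := S.normal
  haveI := S.fin
  haveI := S.faithful
  haveI := S.two
  let A := SubMulAction.ofStabilizer G a
  have h2 : MulAction.IsMultiplyPretransitive (stabilizer G a) A 2 := by
    haveI : MulAction.IsPretransitive G Ω := ⟨fun p q => by
      obtain ⟨h, -, e⟩ := S.trans_H p q; exact ⟨h, e⟩⟩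
    exact SubMulAction.ofStabilizer.isMultiplyPretransitive.1 S.tri
  haveI : MulAction.IsPreprimitive (stabilizer G a) A := MulAction.isPreprimitive_of_is_two_pretransitive h2
  haveI : FaithfulSMul (stabilizer G a) A := ⟨fun {g g'} hgg => Subtype.ext (eq_of_smul_eq_smul (α := Ω) fun z => by
    rcases eq_or_ne z a with rfl | hz
    · exact g.2.trans g'.2.symm
    · exact congrArg (fun w : A => (w : Ω)) (hgg ⟨z, hz⟩))⟩
  have hne : H.subgroupOf (stabilizer G a) ≠ ⊥ := fun e => S.stab_ne_bot a (by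
    rw [Subgroup.subgroupOf_eq_bot, disjoint_iff] at e; exact e)
  haveI := Cfsg.Agent.Block.transitive_of_normal (G := stabilizer G a) (α := A) hne
  obtain ⟨g, hg⟩ := MulAction.exists_smul_eq (H.subgroupOf (stabilizer G a)) (⟨x, hx⟩ : A) ⟨y, hy⟩
  exact ⟨((g : stabilizer G a) : G), g.2, (g : stabilizer G a).2, congrArg (fun w : A => (w : Ω)) hg⟩

theorem two_trans_H {x y x' y' : Ω} (hxy : x ≠ y) (hxy' : x' ≠ y') :
    ∃ h ∈ H, h • x = x' ∧ h • y = y' := by
  obtain ⟨k, hk, hkx⟩ := S.trans_H x x'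
  have h1 : k • y ≠ x' := fun e => hxy.symm (smul_left_cancel k (e.trans hkx.symm))
  obtain ⟨l, hl, hla, hly⟩ := S.trans_stab h1 hxy'.symm
  exact ⟨l * k, mul_mem hl hk, by rw [mul_smul, hkx, hla], by rw [mul_smul, hly]⟩

variable {a b : Ω} (hab : a ≠ b)
include hab

omit [Finite G] in
theorem card_others : Nat.card (Others a b) + 2 = Nat.card Ω := by
  classical
  haveI := S.fin
  haveI := Fintype.ofFinite Ω
  rw [Nat.card_eq_fintype_card, Nat.card_eq_fintype_card, Fintype.card_subtype,
    show Finset.univ.filter (fun c => c ≠ a ∧ c ≠ b) = Finset.univ \ {a, b} by ext; simp,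
    Finset.card_sdiff_of_subset (Finset.subset_univ _), Finset.card_pair hab, Finset.card_univ]
  have := S.big
  rw [Nat.card_eq_fintype_card] at this
  omega

/-- The orbits on triples correspond to the colours. -/
theorem card_triples : Nat.card (orbitRel.Quotient H (Fin 3 ↪ Ω)) = colours H a b := by
  letI := othersAction H a b
  let f : Others a b → orbitRel.Quotient H (Fin 3 ↪ Ω) := fun c =>
    Quotient.mk'' (mkTriple hab c.2.2.symm c.2.1.symm)
  have hf : ∀ c c' : Others a b, c ∈ orbit (stabTwo H a b) c' → f c = f c' := by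
    rintro c c' ⟨g, rfl⟩
    refine Quotient.sound' ⟨⟨(g : G), g.2.1⟩, ?_⟩
    exact smul_mkTriple _ g.2.2.1 g.2.2.2 rfl
  refine (Nat.card_congr (Equiv.ofBijective
    (Quotient.lift f hf : orbitRel.Quotient (stabTwo H a b) (Others a b) → _) ⟨?_, ?_⟩)).symm
  · intro p q
    induction p using Quotient.inductionOn with
    | h c =>
      induction q using Quotient.inductionOn with
      | h c' =>
        intro e
        obtain ⟨g, hg⟩ := Quotient.exact' (e : f c = f c')
        refine Quotient.sound' ⟨⟨(g : G), g.2, ?_, ?_⟩, Subtype.ext ?_⟩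
        · exact congrArg (fun t : Fin 3 ↪ Ω => t 0) hg
        · exact congrArg (fun t : Fin 3 ↪ Ω => t 1) hg
        · exact congrArg (fun t : Fin 3 ↪ Ω => t 2) hg
  · intro p
    induction p using Quotient.inductionOn' with
    | h t =>
      obtain ⟨g, hg, h0, h1⟩ := S.two_trans_H (t.injective.ne (by decide : (0 : Fin 3) ≠ 1)) hab
      refine ⟨Quotient.mk'' ⟨g • t 2, fun e => ?_, fun e => ?_⟩, ?_⟩
      · exact t.injective.ne (by decide : (2 : Fin 3) ≠ 0) (smul_left_cancel g (e.trans h0.symm))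
      · exact t.injective.ne (by decide : (2 : Fin 3) ≠ 1) (smul_left_cancel g (e.trans h1.symm))
      · refine Quotient.sound' ⟨⟨g, hg⟩, ?_⟩
        conv_lhs => rw [triple_eq t]
        exact smul_mkTriple g h0 h1 rfl

omit [Finite G] in
theorem card_orbit_eq (c c' : Others a b) :
    letI := othersAction H a b
    Nat.card (orbit (stabTwo H a b) c) = Nat.card (orbit (stabTwo H a b) c') := by
  letI := othersAction H a b
  obtain ⟨g, hga, hgb, hgc⟩ := S.three_trans hab c.2.2.symm c.2.1.symm hab c'.2.2.symm c'.2.1.symm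
  have hconj : ∀ {k : G}, k • a = a → k • b = b → ∀ h ∈ stabTwo H a b, k * h * k⁻¹ ∈ stabTwo H a b := by
    intro k ka kb h hh
    refine ⟨S.normal.conj_mem h hh.1 k, ?_, ?_⟩
    · show (k * h * k⁻¹) • a = a
      rw [mul_smul, mul_smul, inv_smul_eq_iff.2 ka.symm, hh.2.1, ka]
    · show (k * h * k⁻¹) • b = b
      rw [mul_smul, mul_smul, inv_smul_eq_iff.2 kb.symm, hh.2.2, kb]
  have hia : g⁻¹ • a = a := inv_smul_eq_iff.2 hga.symm
  have hib : g⁻¹ • b = b := inv_smul_eq_iff.2 hgb.symm
  refine Nat.card_congr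
    { toFun := fun x => ⟨⟨g • (x.1 : Ω), fun e => x.1.2.1 (smul_left_cancel g (e.trans hga.symm)),
        fun e => x.1.2.2 (smul_left_cancel g (e.trans hgb.symm))⟩, ?_⟩
      invFun := fun x => ⟨⟨g⁻¹ • (x.1 : Ω), fun e => x.1.2.1 (smul_left_cancel g⁻¹ (e.trans hia.symm)),
        fun e => x.1.2.2 (smul_left_cancel g⁻¹ (e.trans hib.symm))⟩, ?_⟩
      left_inv := fun x => Subtype.ext (Subtype.ext (inv_smul_smul g _))
      right_inv := fun x => Subtype.ext (Subtype.ext (smul_inv_smul g _)) }
  · obtain ⟨h, hh⟩ := x.2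
    refine ⟨⟨g * (h : G) * g⁻¹, hconj hga hgb h h.2⟩, Subtype.ext ?_⟩
    show (g * (h : G) * g⁻¹) • (c' : Ω) = g • (x.1 : Ω)
    rw [← hh, ← hgc, mul_smul, mul_smul, inv_smul_smul]
    rfl
  · obtain ⟨h, hh⟩ := x.2
    refine ⟨⟨g⁻¹ * (h : G) * g⁻¹⁻¹, hconj hia hib h h.2⟩, Subtype.ext ?_⟩
    show (g⁻¹ * (h : G) * g⁻¹⁻¹) • (c : Ω) = g⁻¹ • (x.1 : Ω)
    rw [← hh, inv_inv, mul_smul, mul_smul, hgc]
    rfl

theorem colours_mul (c : Others a b) :
    letI := othersAction H a b
    colours H a b * Nat.card (orbit (stabTwo H a b) c) = Nat.card (Others a b) := by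
  letI := othersAction H a b
  haveI := S.fin
  classical
  haveI := Fintype.ofFinite (orbitRel.Quotient (stabTwo H a b) (Others a b))
  rw [Nat.card_congr (MulAction.selfEquivSigmaOrbits (stabTwo H a b) (Others a b)), Nat.card_sigma,
    Finset.sum_congr rfl fun q _ => S.card_orbit_eq hab q.out c, Finset.sum_const, smul_eq_mul,
    Finset.card_univ, ← Nat.card_eq_fintype_card]
  rfl

theorem card_stab :
    Nat.card (H ⊓ stabilizer G a : Subgroup G) = (Nat.card Ω - 1) * Nat.card (stabTwo H a b) := by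
  classical
  haveI := S.fin
  set K := H ⊓ stabilizer G a with hK
  have h1 : Nat.card (orbit K b) * Nat.card (stabilizer K b) = Nat.card K := by
    rw [← Nat.card_prod]
    exact Nat.card_congr (MulAction.orbitProdStabilizerEquivGroup K b)
  have h2 : orbit K b = {x : Ω | x ≠ a} := by
    ext y
    refine ⟨?_, fun hy => ?_⟩
    · rintro ⟨k, rfl⟩ e
      exact hab (smul_left_cancel (k : G) ((show (k : G) • a = a from k.2.2).trans e.symm))
    · obtain ⟨h, hh, ha', hb'⟩ := S.trans_stab (Ne.symm hab) hy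
      exact ⟨⟨h, hh, ha'⟩, hb'⟩
  have h3 : Nat.card (orbit K b) = Nat.card Ω - 1 := by
    rw [h2, ← Nat.card_congr (Equiv.optionSubtypeNe a), Finite.card_option, Nat.add_sub_cancel]
    rfl
  have h4 : Nat.card (stabilizer K b) = Nat.card (stabTwo H a b) := Nat.card_congr
    { toFun := fun g => ⟨((g : K) : G), (g : K).2.1, (g : K).2.2, g.2⟩
      invFun := fun g => ⟨⟨(g : G), g.2.1, g.2.2.1⟩, g.2.2.2⟩
      left_inv := fun g => rfl
      right_inv := fun g => rfl }
  rw [← h1, h3, h4]

/-- One colour means triple transitivity. -/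
theorem tri_of_colours (hr : colours H a b ≤ 1) : MulAction.IsMultiplyPretransitive H Ω 3 := by
  haveI := S.fin
  haveI : Subsingleton (orbitRel.Quotient H (Fin 3 ↪ Ω)) :=
    Finite.card_le_one_iff_subsingleton.1 (by rw [S.card_triples hab]; exact hr)
  refine ⟨fun t t' => ?_⟩
  obtain ⟨g, hg⟩ := Quotient.exact'
    (Subsingleton.elim (Quotient.mk'' t' : orbitRel.Quotient H (Fin 3 ↪ Ω)) (Quotient.mk'' t))
  exact ⟨g, hg⟩

omit [Finite G] hab in
theorem colours_pos : 0 < colours H a b := by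
  haveI := S.fin
  obtain ⟨c, hc⟩ := S.exists_other a b
  letI := othersAction H a b
  haveI : Nonempty (orbitRel.Quotient (stabTwo H a b) (Others a b)) := ⟨Quotient.mk'' ⟨c, hc⟩⟩
  exact Nat.card_pos

end TriSetup

end Cfsg.Agent.Invol.TripleNormal
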