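import Cfsg.Agent.Lib.Invol.TripleNormal.Colours

/-!
# Descent to the fixed points of a Sylow three-subgroup of a three-point stabilizer

Witt's lemma relative to `H`: if a Sylow three-subgroup `P` of `H ∩ G_abc` is non-trivial, the normalizer of `P`
is triply transitive on the fixed points of `P`, and every `H`-orbit on triples meets the fixed points.
-/

set_option autoImplicit false
set_option linter.style.haveILetI false

namespace Cfsg.Agent.Invol.TripleNormal

open MulAction Subgroup

universe u v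

variable {G : Type u} [Group G] {Ω : Type v} [MulAction G Ω]

theorem mem_stab_triple {H : Subgroup G} {x y z : Ω} {hxy : x ≠ y} {hyz : y ≠ z} {hxz : x ≠ z} {g : G} :
    g ∈ H ⊓ stabilizer G (mkTriple hxy hyz hxz) ↔ g ∈ H ∧ g • x = x ∧ g • y = y ∧ g • z = z := by
  rw [Subgroup.mem_inf, MulAction.mem_stabilizer_iff]
  refine and_congr_right fun _ => ⟨fun h => ⟨congrArg (fun t : Fin 3 ↪ Ω => t 0) h,
    congrArg (fun t : Fin 3 ↪ Ω => t 1) h, congrArg (fun t : Fin 3 ↪ Ω => t 2) h⟩, fun h => ?_⟩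
  exact smul_mkTriple g h.1 h.2.1 h.2.2

namespace TriSetup

variable [Finite G] {H : Subgroup G} (S : TriSetup H Ω)
include S

omit [Finite G] in
/-- Orbit and stabilizer for the two-point stabilizer on the other points. -/
theorem card_stabTwo {a b : Ω} (hab : a ≠ b) (c : Others a b) :
    letI := othersAction H a b
    Nat.card (orbit (stabTwo H a b) c) *
      Nat.card (H ⊓ stabilizer G (mkTriple hab c.2.2.symm c.2.1.symm) : Subgroup G) = Nat.card (stabTwo H a b) := by
  letI := othersAction H a b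
  rw [← Nat.card_congr (MulAction.orbitProdStabilizerEquivGroup (stabTwo H a b) c), Nat.card_prod]
  refine congrArg (_ * ·) (Nat.card_congr
    { toFun := fun g => ⟨⟨(g : G), mem_stabTwo.2 ⟨(mem_stab_triple.1 g.2).1, (mem_stab_triple.1 g.2).2.1,
          (mem_stab_triple.1 g.2).2.2.1⟩⟩, Subtype.ext (mem_stab_triple.1 g.2).2.2.2⟩
      invFun := fun g => ⟨((g : stabTwo H a b) : G), mem_stab_triple.2 ⟨(g : stabTwo H a b).2.1,
          (g : stabTwo H a b).2.2.1, (g : stabTwo H a b).2.2.2, congrArg Subtype.val g.2⟩⟩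
      left_inv := fun g => rfl
      right_inv := fun g => rfl })

/-- Witt's lemma, relative to `H`. -/
theorem witt {P : Subgroup G} (hPH : P ≤ H) {t₀ t t' : Fin 3 ↪ Ω}
    (hPc : Nat.card P = 3 ^ (Nat.card (H ⊓ stabilizer G t₀ : Subgroup G)).factorization 3)
    (ht : P ≤ stabilizer G t) (ht' : P ≤ stabilizer G t') {g : G} (hg : g • t = t') :
    ∃ g' ∈ normalizer (P : Set G), g' • t = t' ∧ g' * g⁻¹ ∈ H := by
  classical
  haveI := Fact.mk Nat.prime_three
  haveI := S.normal
  set K := H ⊓ stabilizer G t' with hK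
  haveI := S.tri
  obtain ⟨k, hk⟩ := MulAction.exists_smul_eq G t₀ t'
  have hcardK : Nat.card (H ⊓ stabilizer G t₀ : Subgroup G) = Nat.card K := by
    have e : (H ⊓ stabilizer G t₀).map (MulAut.conj k).toMonoidHom = K := by
      rw [Subgroup.map_inf _ _ _ (MulAut.conj k).injective, ← MulAction.stabilizer_smul_eq_stabilizer_map_conj, hk,
        hK, show H.map (MulAut.conj k).toMonoidHom = H from ?_]
      refine le_antisymm ?_ fun x hx => ⟨k⁻¹ * x * k⁻¹⁻¹, S.normal.conj_mem x hx k⁻¹, by simp [mul_assoc]⟩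
      rintro _ ⟨x, hx, rfl⟩
      exact S.normal.conj_mem x hx k
    rw [← e]
    exact Nat.card_congr (Subgroup.equivMapOfInjective _ _ (MulAut.conj k).injective).toEquiv
  have hgP : P.map (MulAut.conj g).toMonoidHom ≤ K := by
    rintro _ ⟨x, hx, rfl⟩
    refine mem_inf.2 ⟨S.normal.conj_mem x (hPH hx) g, ?_⟩
    show (g * x * g⁻¹) • t' = t'
    rw [← hg, mul_smul, mul_smul, inv_smul_smul, (ht hx : x • t = t)]
  have hc1 : Nat.card (P.subgroupOf K) = 3 ^ (Nat.card K).factorization 3 := by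
    rw [Nat.card_congr (Subgroup.subgroupOfEquivOfLe (le_inf hPH ht')).toEquiv, hPc, hcardK]
  have hc2 : Nat.card ((P.map (MulAut.conj g).toMonoidHom).subgroupOf K) = 3 ^ (Nat.card K).factorization 3 := by
    rw [Nat.card_congr (Subgroup.subgroupOfEquivOfLe hgP).toEquiv,
      ← Nat.card_congr (Subgroup.equivMapOfInjective P _ (MulAut.conj g).injective).toEquiv, hPc, hcardK]
  obtain ⟨l, hl⟩ := MulAction.exists_smul_eq K (Sylow.ofCard _ hc2) (Sylow.ofCard _ hc1)
  refine ⟨(l : G) * g, Subgroup.mem_normalizer_fintype fun x hx => ?_, ?_, ?_⟩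
  · have hy : (⟨g * x * g⁻¹, hgP ⟨x, hx, rfl⟩⟩ : K) ∈ (P.map (MulAut.conj g).toMonoidHom).subgroupOf K :=
      mem_subgroupOf.2 ⟨x, hx, rfl⟩
    have h1 := Subgroup.smul_mem_pointwise_smul _ (MulAut.conj l) _ hy
    have h2 : MulAut.conj l • (⟨g * x * g⁻¹, hgP ⟨x, hx, rfl⟩⟩ : K) ∈
        ((l • Sylow.ofCard _ hc2 : Sylow 3 K) : Subgroup K) := h1
    rw [hl] at h2
    have h3 : (l : G) * (g * x * g⁻¹) * (l : G)⁻¹ ∈ P := h2
    show (l : G) * g * x * ((l : G) * g)⁻¹ ∈ P
    simpa [mul_assoc] using h3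
  · rw [mul_smul, hg]
    exact (mem_inf.1 l.2).2
  · rw [mul_inv_cancel_right]
    exact (mem_inf.1 l.2).1

/-- The descent. -/
theorem descend {a b : Ω} (hab : a ≠ b) (c : Others a b) (hr : 2 ≤ colours H a b)
    (h3 : 3 ∣ Nat.card (H ⊓ stabilizer G (mkTriple hab c.2.2.symm c.2.1.symm) : Subgroup G)) :
    ∃ (F : Set Ω) (G' : Subgroup (Equiv.Perm F)) (H' : Subgroup G'), H'.Normal ∧ H' ≠ ⊥ ∧
      MulAction.IsMultiplyPretransitive G' F 3 ∧ 3 ∣ Nat.card F ∧ 3 < Nat.card F ∧ Nat.card F < Nat.card Ω ∧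
      colours H a b ≤ Nat.card (orbitRel.Quotient H' (Fin 3 ↪ F)) := by
  classical
  haveI := Fact.mk Nat.prime_three
  haveI := S.fin
  haveI := S.faithful
  haveI := S.normal
  set t₀ := mkTriple hab c.2.2.symm c.2.1.symm with ht₀
  set K₀ := H ⊓ stabilizer G t₀ with hK₀
  obtain ⟨P₀⟩ : Nonempty (Sylow 3 K₀) := inferInstance
  set P := (P₀ : Subgroup K₀).map K₀.subtype with hP
  have hPK : P ≤ K₀ := Subgroup.map_subtype_le _
  have hPp : IsPGroup 3 P := P₀.isPGroup'.map _
  have hPc : Nat.card P = 3 ^ (Nat.card K₀).factorization 3 := by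
    rw [hP, ← Nat.card_congr (Subgroup.equivMapOfInjective _ _ K₀.subtype_injective).toEquiv,
      P₀.card_eq_multiplicity]
  have hPne : P ≠ ⊥ := by
    intro e
    rw [e, Subgroup.card_bot] at hPc
    have h1 := Nat.prime_three.factorization_pos_of_dvd Nat.card_pos.ne' h3
    have h2 : 1 < 3 ^ (Nat.card K₀).factorization 3 := Nat.one_lt_pow h1.ne' (by norm_num)
    omega
  set F : Set Ω := {x | ∀ p ∈ P, p • x = x} with hF
  have haF : a ∈ F := fun p hp => (mem_stab_triple.1 (hPK hp)).2.1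
  have hbF : b ∈ F := fun p hp => (mem_stab_triple.1 (hPK hp)).2.2.1
  have hPD : P ≤ stabTwo H a b := fun p hp =>
    mem_stabTwo.2 ⟨(mem_stab_triple.1 (hPK hp)).1, haF p hp, hbF p hp⟩
  -- every orbit of the two-point stabilizer has a fixed point
  letI := othersAction H a b
  have hfix : ∀ z : Others a b, ∃ z' : Others a b, z' ∈ orbit (stabTwo H a b) z ∧ (z' : Ω) ∈ F := by
    intro z
    have hm : ¬ 3 ∣ Nat.card (orbit (stabTwo H a b) z) := fun h => by
      have h1 := h.trans (Dvd.intro_left _ (S.colours_mul hab z))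
      have h2 := S.card_others hab
      have h3 := S.three
      omega
    obtain ⟨w, hw⟩ := IsPGroup.nonempty_fixed_point_of_prime_not_dvd_card
      (hPp.comap_of_injective (stabTwo H a b).subtype (stabTwo H a b).subtype_injective :
        IsPGroup 3 (P.subgroupOf (stabTwo H a b)))
      (orbit (stabTwo H a b) z) hm
    refine ⟨w.1, w.2, fun p hp => ?_⟩
    exact congrArg (fun y : orbit (stabTwo H a b) z => ((y.1 : Others a b) : Ω))
      (hw ⟨⟨p, hPD hp⟩, mem_subgroupOf.2 hp⟩)
  have hcard : colours H a b + 2 ≤ Nat.card F := by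
    have h1 : colours H a b ≤ Nat.card {z : Others a b // (z : Ω) ∈ F} := by
      refine Nat.card_le_card_of_surjective
        (fun z => (Quotient.mk'' z.1 : orbitRel.Quotient (stabTwo H a b) (Others a b))) fun q => ?_
      induction q using Quotient.inductionOn' with
      | h z =>
        obtain ⟨z', hz, hzF⟩ := hfix z
        exact ⟨⟨z', hzF⟩, Quotient.sound' hz⟩
    have h2 : Nat.card {z : Others a b // (z : Ω) ∈ F} + 2 ≤ Nat.card F := by
      let ι : Option (Option {z : Others a b // (z : Ω) ∈ F}) → F := fun o => match o with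
        | none => ⟨a, haF⟩
        | some none => ⟨b, hbF⟩
        | some (some z) => ⟨(z.1 : Ω), z.2⟩
      have hι : Function.Injective ι := by
        rintro (_ | _ | z) (_ | _ | w) e <;> simp only [ι, Subtype.mk.injEq] at e
        · rfl
        · exact absurd e hab
        · exact absurd e.symm w.1.2.1
        · exact absurd e.symm hab
        · rfl
        · exact absurd e.symm w.1.2.2
        · exact absurd e z.1.2.1
        · exact absurd e z.1.2.2
        · exact congrArg (some ∘ some) (Subtype.ext (Subtype.ext e))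
      refine le_trans (le_of_eq ?_) (Nat.card_le_card_of_injective ι hι)
      rw [Finite.card_option, Finite.card_option]
    omega
  have hmod : Nat.card Ω ≡ Nat.card F [MOD 3] := by
    have e : MulAction.fixedPoints P Ω = F := by
      ext x
      exact ⟨fun h p hp => h ⟨p, hp⟩, fun h p => h p.1 p.2⟩
    rw [← e]
    exact hPp.card_modEq_card_fixedPoints Ω
  have hF3 : 3 ∣ Nat.card F := (hmod.dvd_iff dvd_rfl).1 S.three
  have hFlt : Nat.card F < Nat.card Ω := by
    rw [← Nat.card_univ (α := Ω)]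
    refine Set.Finite.card_lt_card Set.finite_univ ((Set.ssubset_univ_iff).2 fun e => hPne ?_)
    exact (Subgroup.eq_bot_iff_forall _).2 fun p hp =>
      eq_of_smul_eq_smul fun x : Ω => (((e ▸ Set.mem_univ x : x ∈ F)) p hp).trans (one_smul G x).symm
  -- the action of the normalizer on the fixed points
  set N := normalizer (P : Set G) with hN
  letI : MulAction N F :=
    { smul := fun g x => ⟨(g : G) • (x : Ω), fun p hp => by
        have h1 := x.2 _ ((Subgroup.mem_normalizer_iff.1 (inv_mem g.2) p).1 hp)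
        rw [mul_smul, mul_smul, inv_inv, inv_smul_eq_iff] at h1
        exact h1⟩
      one_smul := fun x => Subtype.ext (one_smul G (x : Ω))
      mul_smul := fun g h x => Subtype.ext (mul_smul (g : G) (h : G) (x : Ω)) }
  let φ := MulAction.toPermHom N F
  have hφ : ∀ (n : N) (x : F), ((φ.rangeRestrict n • x : F) : Ω) = (n : G) • (x : Ω) := fun n x => rfl
  let ι : (Fin 3 ↪ F) → (Fin 3 ↪ Ω) := fun t => t.trans (Function.Embedding.subtype _)
  have hιP : ∀ t, P ≤ stabilizer G (ι t) := fun t p hp =>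
    MulAction.mem_stabilizer_iff.2 (by ext i; exact (t i).2 p hp)
  have hιs : ∀ (n : N) (t : Fin 3 ↪ F), ι (φ.rangeRestrict n • t) = (n : G) • ι t := fun n t => by
    ext i; rfl
  have hιinj : Function.Injective ι := fun t t' e => by
    ext i; exact congrArg (fun s : Fin 3 ↪ Ω => s i) e
  have hwitt : ∀ t t' (g : G), g • ι t = ι t' →
      ∃ n : N, φ.rangeRestrict n • t = t' ∧ (n : G) * g⁻¹ ∈ H := by
    intro t t' g hg
    obtain ⟨g', hg', e, hH⟩ := S.witt (hPK.trans inf_le_left) hPc (hιP t) (hιP t') hg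
    exact ⟨⟨g', hg'⟩, hιinj ((hιs _ t).trans e), hH⟩
  set H' : Subgroup φ.range := (H.subgroupOf N).map φ.rangeRestrict with hH'
  have hH'n : H'.Normal := (inferInstance : (H.subgroupOf N).Normal).map _ φ.rangeRestrict_surjective
  refine ⟨F, φ.range, H', hH'n, ?_, ⟨fun t t' => ?_⟩, hF3, by omega, hFlt, ?_⟩
  · intro hbot
    have hinj : Function.Injective
        (fun t : Fin 3 ↪ F => (Quotient.mk'' (ι t) : orbitRel.Quotient H (Fin 3 ↪ Ω))) := fun t t' e => by
      obtain ⟨h, hh⟩ := Quotient.exact' e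
      obtain ⟨n, hn, hnH⟩ := hwitt t' t (h : G) hh
      have hnH' : (n : G) ∈ H := by simpa using mul_mem hnH h.2
      have h1 : φ.rangeRestrict n ∈ H' := ⟨n, hnH', rfl⟩
      rw [hbot, mem_bot] at h1
      rw [← hn, h1]
      ext i
      rfl
    have hle := Nat.card_le_card_of_injective _ hinj
    rw [S.card_triples hab] at hle
    haveI := Fintype.ofFinite F
    rw [Nat.card_eq_fintype_card, Fintype.card_embedding_eq, Fintype.card_fin] at hle
    rw [Nat.card_eq_fintype_card] at hcard
    simp only [Nat.descFactorial_succ, Nat.descFactorial_zero, mul_one, Nat.sub_zero] at hle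
    set f := Fintype.card F
    have hf : 4 ≤ f := by omega
    have hp : 2 ≤ (f - 1) * f := le_trans (by norm_num) (Nat.mul_le_mul (show 1 ≤ f - 1 by omega) hf)
    have := Nat.mul_le_mul_left (f - 2) hp
    omega
  · haveI := S.tri
    obtain ⟨g, hg⟩ := MulAction.exists_smul_eq G (ι t) (ι t')
    obtain ⟨n, hn, -⟩ := hwitt t t' g hg
    exact ⟨φ.rangeRestrict n, hn⟩
  · rw [← S.card_triples hab]
    let ψ : (Fin 3 ↪ F) → orbitRel.Quotient H (Fin 3 ↪ Ω) := fun t => Quotient.mk'' (ι t)
    have hψ : ∀ t t' : Fin 3 ↪ F, t ∈ orbit H' t' → ψ t = ψ t' := by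
      rintro t t' ⟨⟨-, n, hn, rfl⟩, rfl⟩
      exact Quotient.sound' ⟨⟨(n : G), hn⟩, (hιs n t').symm⟩
    refine Nat.card_le_card_of_surjective (Quotient.lift ψ hψ : orbitRel.Quotient H' (Fin 3 ↪ F) → _) fun q => ?_
    induction q using Quotient.inductionOn' with
    | h T =>
      obtain ⟨g, hg, g0, g1⟩ := S.two_trans_H (T.injective.ne (by decide : (0 : Fin 3) ≠ 1)) hab
      have hz : g • T 2 ≠ a ∧ g • T 2 ≠ b :=
        ⟨fun e => T.injective.ne (by decide : (2 : Fin 3) ≠ 0) (smul_left_cancel g (e.trans g0.symm)),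
          fun e => T.injective.ne (by decide : (2 : Fin 3) ≠ 1) (smul_left_cancel g (e.trans g1.symm))⟩
      obtain ⟨z, ⟨d, hd⟩, hzF⟩ := hfix ⟨g • T 2, hz⟩
      refine ⟨Quotient.mk'' (mkTriple (x := (⟨a, haF⟩ : F)) (y := ⟨b, hbF⟩) (z := ⟨(z : Ω), hzF⟩)
        (fun e => hab (congrArg Subtype.val e)) (fun e => z.2.2 (congrArg Subtype.val e).symm)
        (fun e => z.2.1 (congrArg Subtype.val e).symm)), ?_⟩
      refine Quotient.sound' ⟨⟨(d : G) * g, mul_mem d.2.1 hg⟩, ?_⟩
      ext i
      fin_cases i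
      · show ((d : G) * g) • T 0 = a
        rw [mul_smul, g0]; exact d.2.2.1
      · show ((d : G) * g) • T 1 = b
        rw [mul_smul, g1]; exact d.2.2.2
      · show ((d : G) * g) • T 2 = (z : Ω)
        rw [mul_smul]; exact congrArg Subtype.val hd

end TriSetup

end Cfsg.Agent.Invol.TripleNormal
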