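import Cfsg.Agent.Lib.Invol.TripleNormal.Action

/-!
# A `q`-group of extraspecial type, `q ≥ 5`, is not normal in a transitive linear group

`P` has exponent `q` and `[P, P] ≤ Z = Z(P)` of order `q`.  If `P` is normal in a group transitive on `U∖1`,
every vector is fixed by a non-central element, and counting the fixed spaces gives a contradiction.
-/

set_option autoImplicit false
set_option linter.style.haveILetI false

namespace Cfsg.Agent.Invol.TripleNormal

open MulAction Subgroup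
open scoped commutatorElement Pointwise

variable {G : Type*} [Group G] [Finite G] {U : Type*} [CommGroup U] [MulDistribMulAction G U]

/-- The data: exponent `q`, commutators and centre in a subgroup `Z` of order `q` semiregular on `U`. -/
structure ExtraType (U : Type*) [CommGroup U] [MulDistribMulAction G U] (q : ℕ) (P Z : Subgroup G) : Prop where
  hq : q.Prime
  exp : ∀ g ∈ P, g ^ q = 1
  le : Z ≤ P
  cardZ : Nat.card Z = q
  central : ∀ z ∈ Z, ∀ g ∈ P, Commute z g
  center : ∀ g ∈ P, (∀ h ∈ P, Commute g h) → g ∈ Z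
  comm : ∀ g ∈ P, ∀ h ∈ P, ⁅g, h⁆ ∈ Z
  fpf : ∀ z ∈ Z, z ≠ 1 → ∀ u : U, z • u = u → u = 1

namespace ExtraType

variable {q : ℕ} {P Z : Subgroup G} (h : ExtraType U q P Z)
include h

omit [Finite G] in
theorem isPGroup : IsPGroup q P := fun g => ⟨1, Subtype.ext (by
  rw [pow_one, SubmonoidClass.coe_pow]; exact h.exp g g.2)⟩

omit [Finite G] in
theorem commute_inf {X : Subgroup G} (hXP : X ≤ P) (hXZ : X ⊓ Z = ⊥) {x y : G} (hx : x ∈ X) (hy : y ∈ X) :
    Commute x y := by
  have h1 : ⁅x, y⁆ ∈ X ⊓ Z := mem_inf.2 ⟨by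
    rw [commutatorElement_def]
    exact mul_mem (mul_mem (mul_mem hx hy) (inv_mem hx)) (inv_mem hy), h.comm x (hXP hx) y (hXP hy)⟩
  rw [hXZ, mem_bot, commutatorElement_eq_one_iff_mul_comm] at h1
  exact h1

omit [Finite G] in
theorem commute_sup {X : Subgroup G} (hXP : X ≤ P) (hXZ : X ⊓ Z = ⊥) :
    ∀ x ∈ X ⊔ Z, ∀ y ∈ X ⊔ Z, Commute x y := by
  have hC : ∀ w, w ∈ X ∨ w ∈ Z → ∀ y, y ∈ X ∨ y ∈ Z → Commute w y := by
    rintro w (hw | hw) y (hy | hy)
    · exact h.commute_inf hXP hXZ hw hy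
    · exact (h.central y hy w (hXP hw)).symm
    · exact h.central w hw y (hXP hy)
    · exact h.central w hw y (h.le hy)
  have key : X ⊔ Z ≤ centralizer ((X ⊔ Z : Subgroup G) : Set G) := by
    have h1 : X ⊔ Z ≤ centralizer ((X : Set G) ∪ (Z : Set G)) := sup_le
      (fun x hx y hy => ((hC x (Or.inl hx) y hy).eq).symm) fun x hx y hy => ((hC x (Or.inr hx) y hy).eq).symm
    refine le_trans h1 (fun x hx => ?_)
    rw [sup_eq_closure, centralizer_closure]
    exact hx
  exact fun x hx y hy => (key hy x hx)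

theorem card_sup {X : Subgroup G} (hXP : X ≤ P) (hXZ : X ⊓ Z = ⊥) :
    Nat.card (X ⊔ Z : Subgroup G) = Nat.card X * q := by
  rw [← h.cardZ, ← Nat.card_prod]
  have hle : X ≤ normalizer (Z : Set G) := fun x hx => mem_normalizer_iff.2 fun z => by
    constructor
    · intro hz
      rw [(h.central z hz x (hXP hx)).symm.eq, mul_inv_cancel_right]
      exact hz
    · intro hz
      have e := (h.central _ hz x (hXP hx)).eq
      rw [inv_mul_cancel_right] at e
      rwa [← mul_left_cancel e] at hz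
  refine (Nat.card_congr (Equiv.ofBijective (fun a : X × Z =>
    (⟨(a.1 : G) * a.2, mul_mem_sup a.1.2 a.2.2⟩ : (X ⊔ Z : Subgroup G))) ⟨?_, ?_⟩)).symm
  · rintro ⟨x, z⟩ ⟨x', z'⟩ e
    have e' : (x : G) * z = x' * z' := congrArg Subtype.val e
    have h1 : (x' : G)⁻¹ * x ∈ X ⊓ Z := mem_inf.2 ⟨mul_mem (inv_mem x'.2) x.2, by
      rw [show (x' : G)⁻¹ * x = (x' : G)⁻¹ * ((x : G) * z) * (z : G)⁻¹ by group, e', inv_mul_cancel_left]
      exact mul_mem (show (z' : G) ∈ Z from z'.2) (inv_mem z.2)⟩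
    rw [hXZ, mem_bot, inv_mul_eq_one] at h1
    obtain rfl : x = x' := Subtype.ext h1.symm
    obtain rfl : z = z' := Subtype.ext (mul_left_cancel e')
    rfl
  · rintro ⟨a, ha⟩
    have ha' : a ∈ ((X : Set G) * (Z : Set G)) := by
      rw [← coe_mul_of_left_le_normalizer_right X Z hle]
      exact ha
    obtain ⟨x, hx, z, hz, rfl⟩ := Set.mem_mul.1 ha'
    exact ⟨(⟨x, hx⟩, ⟨z, hz⟩), rfl⟩

/-- The fixed spaces of the conjugates of `X` are independent. -/
theorem pow_card_fixU_le [Finite U] {p : ℕ} (hp : p.Prime) (hex : ∀ u : U, u ^ p = 1) (hqp : q ≠ p)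
    {X : Subgroup G} (hXP : X ≤ P) (hXZ : X ⊓ Z = ⊥) :
    Nat.card (fixU U X) ^ (P ⊓ centralizer (X : Set G)).relIndex P ≤ Nat.card U := by
  classical
  set C := P ⊓ centralizer (X : Set G) with hC
  let Q := P ⧸ C.subgroupOf P
  haveI := Fintype.ofFinite Q
  let Y : Q → Subgroup G := fun c => X.map (MulAut.conj ((c.out : P) : G)).toMonoidHom
  have hY : ∀ c, Y c ≤ X ⊔ Z := by
    rintro c _ ⟨x, hx, rfl⟩
    show ((c.out : P) : G) * x * ((c.out : P) : G)⁻¹ ∈ _
    rw [show ((c.out : P) : G) * x * ((c.out : P) : G)⁻¹ = ⁅((c.out : P) : G), x⁆ * x by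
      rw [commutatorElement_def]; group]
    exact mul_mem (mem_sup_right (h.comm _ c.out.2 x (hXP hx))) (mem_sup_left hx)
  have hinj : Function.Injective Y := by
    intro c d e
    rw [← QuotientGroup.out_eq' c, ← QuotientGroup.out_eq' d]
    refine QuotientGroup.eq.2 (mem_subgroupOf.2 ⟨((c.out)⁻¹ * d.out).2, ?_⟩)
    intro x hx
    set k : G := (((c.out)⁻¹ * d.out : P) : G) with hk
    have h1 : k * x * k⁻¹ ∈ X := by
      have h2 : ((d.out : P) : G) * x * ((d.out : P) : G)⁻¹ ∈ Y c := e.ge ⟨x, hx, rfl⟩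
      obtain ⟨y, hy, hyx⟩ := h2
      have hyx' : ((c.out : P) : G) * y * ((c.out : P) : G)⁻¹ =
        ((d.out : P) : G) * x * ((d.out : P) : G)⁻¹ := hyx
      have e3 : k * x * k⁻¹ = y := by
        calc k * x * k⁻¹ = ((c.out : P) : G)⁻¹ * (((d.out : P) : G) * x * ((d.out : P) : G)⁻¹) *
              ((c.out : P) : G) := by rw [hk, Subgroup.coe_mul, Subgroup.coe_inv]; group
          _ = y := by rw [← hyx']; group
      rw [e3]; exact hy
    have h3 : ⁅k, x⁆ ∈ X ⊓ Z := mem_inf.2 ⟨by rw [commutatorElement_def]; exact mul_mem h1 (inv_mem hx),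
      h.comm k ((c.out)⁻¹ * d.out).2 x (hXP hx)⟩
    rw [hXZ, mem_bot, commutatorElement_eq_one_iff_mul_comm] at h3
    exact h3.symm
  have hcardY : ∀ c, Nat.card (Y c) = Nat.card X := fun c =>
    (Nat.card_congr (Subgroup.equivMapOfInjective X _ (MulEquiv.injective _)).toEquiv).symm
  have hsup : ∀ c d, c ≠ d → Z ≤ Y c ⊔ Y d := by
    intro c d hcd
    refine le_trans le_sup_right (b := X ⊔ Z) (le_of_eq ?_)
    refine (eq_of_le_of_card_ge (sup_le (hY c) (hY d)) ?_).symm
    rw [h.card_sup hXP hXZ]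
    obtain ⟨j, hj⟩ := Subgroup.card_dvd_of_le (le_sup_left : Y c ≤ Y c ⊔ Y d)
    have hdvd : Nat.card (Y c ⊔ Y d : Subgroup G) ∣ Nat.card X * q := by
      rw [← h.card_sup hXP hXZ]; exact Subgroup.card_dvd_of_le (sup_le (hY c) (hY d))
    rw [hcardY] at hj
    rw [hj] at hdvd ⊢
    rcases h.hq.eq_one_or_self_of_dvd j (Nat.dvd_of_mul_dvd_mul_left Nat.card_pos hdvd) with rfl | rfl
    · rw [mul_one] at hj
      have e1 := eq_of_le_of_card_ge (le_sup_left : Y c ≤ Y c ⊔ Y d) (by rw [hj, hcardY])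
      have e2 := eq_of_le_of_card_ge (le_sup_right : Y d ≤ Y c ⊔ Y d) (by rw [hj, hcardY])
      exact absurd (hinj (e1.trans e2.symm)) hcd
    · exact le_rfl
  let Φ : (∀ c : Q, fixU U (Y c)) → U := fun f => ∏ c, (f c : U)
  have hΦ : Function.Injective Φ := by
    intro f g e
    funext c
    haveI := Fintype.ofFinite (Y c)
    let S : U → U := fun u => ∏ y : Y c, (y : G) • u
    have hown : ∀ u ∈ fixU U (Y c), S u = u ^ Nat.card (Y c) := fun u hu => by
      show ∏ y : Y c, (y : G) • u = _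
      rw [Finset.prod_congr rfl fun (y : Y c) _ => hu y y.2, Finset.prod_const, Finset.card_univ,
        Nat.card_eq_fintype_card]
    have hoth : ∀ d, d ≠ c → ∀ u ∈ fixU U (Y d), S u = 1 := by
      intro d hdc u hu
      have hfix : ∀ a ∈ Y c ⊔ Y d, a • S u = S u := by
        have hle : Y c ⊔ Y d ≤ stabilizer G (S u) := sup_le (fun a ha => by
          show a • ∏ y : Y c, (y : G) • u = ∏ y : Y c, (y : G) • u
          rw [Finset.smul_prod']
          exact Fintype.prod_equiv (Equiv.mulLeft (⟨a, ha⟩ : Y c)) _ _ fun y => by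
            simp [mul_smul]) fun a ha => by
          show a • ∏ y : Y c, (y : G) • u = ∏ y : Y c, (y : G) • u
          rw [Finset.smul_prod']
          refine Finset.prod_congr rfl fun y _ => ?_
          rw [← mul_smul, (h.commute_sup hXP hXZ a (hY d ha) y (hY c y.2)).eq, mul_smul, hu a ha]
        exact fun a ha => hle ha
      haveI := Fact.mk h.hq
      have hZne : Z ≠ ⊥ := fun e' => by
        have := h.cardZ; rw [e', Subgroup.card_bot] at this; exact h.hq.one_lt.ne this
      obtain ⟨z, hz, hz1⟩ := Z.bot_or_exists_ne_one.resolve_left hZne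
      exact h.fpf z hz hz1 _ (hfix z (hsup c d (Ne.symm hdc) hz))
    have hmul : ∀ w : Q → U, S (∏ d, w d) = ∏ d, S (w d) := fun w => by
      show ∏ y : Y c, (y : G) • ∏ d, w d = ∏ d, ∏ y : Y c, (y : G) • w d
      rw [Finset.prod_comm]
      exact Finset.prod_congr rfl fun y _ => Finset.smul_prod'
    have e2 : S (∏ d, ((f d : U) / (g d : U))) = 1 := by
      rw [Finset.prod_div_distrib, show (∏ d, (f d : U)) = ∏ d, (g d : U) from e, div_self']
      simp [S, smul_one]
    rw [hmul, Finset.prod_eq_single c (fun d _ hdc => hoth d hdc _ (div_mem (f d).2 (g d).2))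
      (fun hc => absurd (Finset.mem_univ c) hc), hown _ (div_mem (f c).2 (g c).2)] at e2
    refine Subtype.ext (div_eq_one.1 (eq_one_of_pow hp hex ?_ e2))
    intro hd
    haveI := Fact.mk h.hq
    obtain ⟨k, hk⟩ := (h.isPGroup.to_le ((hY c).trans (sup_le hXP h.le))).exists_card_eq
    rw [hk] at hd
    exact hqp ((Nat.prime_dvd_prime_iff_eq hp h.hq).1 (hp.dvd_of_dvd_pow hd)).symm
  have hle := Nat.card_le_card_of_injective Φ hΦ
  rw [Nat.card_pi] at hle
  refine le_trans (le_of_eq ?_) hle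
  rw [Finset.prod_congr rfl fun c _ => card_fixU_conj X ((c.out : P) : G), Finset.prod_const,
    Finset.card_univ, ← Nat.card_eq_fintype_card]
  rfl

/-- The centraliser of `X` has index at least `|X|`. -/
theorem card_le_relIndex {X : Subgroup G} (hXP : X ≤ P) (hXZ : X ⊓ Z = ⊥) :
    Nat.card X ≤ (P ⊓ centralizer (X : Set G)).relIndex P := by
  classical
  set C := P ⊓ centralizer (X : Set G) with hC
  haveI := Fact.mk h.hq
  let K0 : Set (Subgroup G) := {K | C ≤ K ∧ K ≤ P ∧
    Nat.card X ≤ Nat.card (X ⊓ centralizer (K : Set G) : Subgroup G) * C.relIndex K}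
  have hC0 : C ∈ K0 := ⟨le_rfl, inf_le_left, by
    rw [Subgroup.relIndex_self, mul_one]
    exact Subgroup.card_le_of_le (le_inf le_rfl fun x hx c hc => (hc.2 x hx).symm)⟩
  obtain ⟨K, -, hK⟩ := (Set.toFinite K0).exists_le_maximal hC0
  obtain ⟨⟨hCK, hKP, hcard⟩, hmax⟩ := hK
  rcases (X ⊓ centralizer (K : Set G)).bot_or_exists_ne_one with e | ⟨x, hx, hx1⟩
  · rw [e, Subgroup.card_bot, one_mul] at hcard
    refine hcard.trans ?_
    rw [← Subgroup.relIndex_mul_relIndex C K P hCK hKP]
    exact Nat.le_mul_of_pos_right _ (Nat.pos_of_ne_zero Subgroup.index_ne_zero_of_finite)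
  exfalso
  obtain ⟨g, hg, hgx⟩ : ∃ g ∈ P, ¬ Commute x g := by
    by_contra hc
    push Not at hc
    have : x ∈ X ⊓ Z := ⟨hx.1, h.center x (hXP hx.1) hc⟩
    rw [hXZ] at this
    exact hx1 this
  set K' := K ⊔ Subgroup.zpowers g with hK'
  have hKK' : K < K' := lt_of_le_of_ne le_sup_left fun e => hgx
    ((hx.2 g (e.ge (mem_sup_right (Subgroup.mem_zpowers g)))).symm)
  have hK'P : K' ≤ P := sup_le hKP (Subgroup.zpowers_le.2 hg)
  let X1 := X ⊓ centralizer (K : Set G)
  let φ : X1 →* Z :=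
    { toFun := fun y => ⟨⁅g, (y : G)⁆, h.comm g hg y (hXP y.2.1)⟩
      map_one' := Subtype.ext (commutatorElement_one_right g)
      map_mul' := fun y z => Subtype.ext (by
        show ⁅g, (y : G) * z⁆ = ⁅g, (y : G)⁆ * ⁅g, (z : G)⁆
        have hc := (h.central _ (h.comm g hg z (hXP z.2.1)) y (hXP y.2.1)).eq
        calc ⁅g, (y : G) * z⁆ = ⁅g, (y : G)⁆ * ((y : G) * ⁅g, (z : G)⁆ * (y : G)⁻¹) := by
              simp only [commutatorElement_def]; group
          _ = ⁅g, (y : G)⁆ * ⁅g, (z : G)⁆ := by rw [← hc]; group) }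
  have hker : Nat.card φ.ker ≤ Nat.card (X ⊓ centralizer (K' : Set G) : Subgroup G) := by
    refine Nat.card_le_card_of_injective (fun y => ⟨((y : X1) : G), (y : X1).2.1, ?_⟩) fun a b e =>
      Subtype.ext (Subtype.ext (congrArg Subtype.val e :))
    have hgy : Commute g ((y : X1) : G) := commutatorElement_eq_one_iff_mul_comm.1
      (congrArg (fun z : Z => (z : G)) (MonoidHom.mem_ker.1 y.2))
    have hle : K' ≤ centralizer ({((y : X1) : G)} : Set G) := sup_le
      (fun k hk => mem_centralizer_singleton_iff.2 ((y : X1).2.2 k hk))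
      (Subgroup.zpowers_le.2 (mem_centralizer_singleton_iff.2 hgy.eq))
    exact fun k hk => mem_centralizer_singleton_iff.1 (hle hk)
  have hq' : q ≤ K.relIndex K' := by
    obtain ⟨k, hk⟩ := (h.isPGroup.to_le hK'P).index (K.subgroupOf K')
    have hk0 : k ≠ 0 := by
      rintro rfl
      rw [pow_zero, Subgroup.index_eq_one, Subgroup.subgroupOf_eq_top] at hk
      exact hKK'.not_ge hk
    show q ≤ (K.subgroupOf K').index
    rw [hk]
    exact Nat.le_self_pow hk0 q
  refine hKK'.not_ge (hmax ⟨hCK.trans le_sup_left, hK'P, hcard.trans ?_⟩ le_sup_left)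
  calc Nat.card X1 * C.relIndex K
      = Nat.card φ.ker * φ.ker.index * C.relIndex K := by rw [Subgroup.card_mul_index]
    _ ≤ Nat.card (X ⊓ centralizer (K' : Set G) : Subgroup G) * q * C.relIndex K := by
        refine Nat.mul_le_mul_right _ (Nat.mul_le_mul hker ?_)
        rw [Subgroup.index_ker, ← h.cardZ]
        exact Nat.card_le_card_of_injective Subtype.val Subtype.val_injective
    _ ≤ Nat.card (X ⊓ centralizer (K' : Set G) : Subgroup G) * K.relIndex K' * C.relIndex K :=
        Nat.mul_le_mul_right _ (Nat.mul_le_mul_left _ hq')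
    _ = _ := by rw [← Subgroup.relIndex_mul_relIndex C K K' hCK le_sup_left]; ring

/-- In a group transitive on `U∖1` there is no normal subgroup of this type, `q ≥ 5`. -/
theorem false [Finite U] [Nontrivial U] [P.Normal] [Z.Normal] {p : ℕ} (hp : p.Prime)
    (hex : ∀ u : U, u ^ p = 1) (hqp : q ≠ p) (hq5 : 5 ≤ q) (hT : TransNe G U) (hne : ∃ g ∈ P, g ∉ Z) : False := by
  classical
  haveI := Fintype.ofFinite U
  haveI := Fintype.ofFinite G
  haveI := Fact.mk h.hq
  have hZne : Z ≠ ⊥ := fun e' => by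
    have := h.cardZ; rw [e', Subgroup.card_bot] at this; exact h.hq.one_lt.ne this
  obtain ⟨z, hz, hz1⟩ := Z.bot_or_exists_ne_one.resolve_left hZne
  have hqu : ∀ u : U, u ^ q = 1 → u = 1 := fun u hu => eq_one_of_pow hp hex
    (fun hd => hqp ((Nat.prime_dvd_prime_iff_eq hp h.hq).1 hd).symm) hu
  -- powers of elements outside `Z`
  have hout : ∀ (K : Subgroup G) (w : G), w ∈ P → w ∉ K → ∀ k : ℕ, ¬ q ∣ k → w ^ k ∉ K := by
    intro K w hw hwK k hk hmem
    obtain ⟨j, hj⟩ := exists_pow_eq_self_of_coprime (x := w) (n := k)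
      (((h.hq.coprime_iff_not_dvd.2 hk).symm).coprime_dvd_right (orderOf_dvd_of_pow_eq_one (h.exp w hw)))
    exact hwK (hj ▸ pow_mem hmem j)
  -- a pair `z, w` gives a non-central element fixing an orbit product
  have pair : ∀ w ∈ P, ∀ u : U, u ≠ 1 → (∀ j : ℕ, ¬ q ∣ j → orbProd q (z * w ^ j) u = 1) →
      (∀ k : ℕ, ¬ q ∣ k → orbProd q (w ^ k) u = 1) → False := by
    intro w hw u hu h1 h2
    refine hu (hqu u (pow_eq_one_of_pair h.hq (h.central z hz w hw) (fun j => ?_) h2))
    by_cases hj : q ∣ j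
    · obtain ⟨i, rfl⟩ := hj
      rw [pow_mul, h.exp w hw, one_pow, mul_one]
      exact orbProd_eq_one (h.exp z (h.le hz)) (h.fpf z hz hz1) u
    · exact h1 j hj
  have hzw : ∀ (w : G), w ∈ P → ∀ j : ℕ, (z * w ^ j) ^ q = 1 := fun w hw j => by
    rw [(h.central z hz _ (pow_mem hw j)).mul_pow, h.exp z (h.le hz), h.exp _ (pow_mem hw j), one_mul]
  -- every vector is fixed by an element outside `Z`
  have hcov : ∀ v : U, v ≠ 1 → ∃ x ∈ P, x ∉ Z ∧ x • v = v := by
    intro v hv
    by_contra hcon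
    push Not at hcon
    have hall : ∀ u : U, u ≠ 1 → ∀ x ∈ P, x ∉ Z → x • u ≠ u := by
      intro u hu x hx hxZ e
      obtain ⟨g, rfl⟩ := hT u v hu hv
      refine hcon (g * x * g⁻¹) (Subgroup.Normal.conj_mem inferInstance x hx g) (fun hm => hxZ ?_) ?_
      · simpa [mul_assoc] using Subgroup.Normal.conj_mem (inferInstance : Z.Normal) _ hm g⁻¹
      · rw [mul_smul, mul_smul, inv_smul_smul, e]
    obtain ⟨w, hw, hwZ⟩ := hne
    refine pair w hw v hv (fun j hj => ?_) fun k hk => ?_
    · by_contra e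
      refine hall _ e _ (mul_mem (h.le hz) (pow_mem hw j)) ?_ (smul_orbProd (hzw w hw j) v)
      exact fun hm => hout Z w hw hwZ j hj (by simpa using mul_mem (inv_mem hz) hm)
    · by_contra e
      exact hall _ e _ (pow_mem hw k) (hout Z w hw hwZ k hk) (smul_orbProd (h.exp _ (pow_mem hw k)) v)
  obtain ⟨v, hv⟩ := exists_ne (1 : U)
  set X := P ⊓ stabilizer G v with hX
  have hXP : X ≤ P := inf_le_left
  have hXZ : X ⊓ Z = ⊥ := (Subgroup.eq_bot_iff_forall _).2 fun x hx => by
    by_contra hx1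
    exact hv (h.fpf x hx.2 hx1 v hx.1.2)
  have hXne : X ≠ ⊥ := by
    obtain ⟨x, hx, hxZ, hxv⟩ := hcov v hv
    exact fun e => hxZ (by
      have : x ∈ X := ⟨hx, hxv⟩
      rw [e, mem_bot] at this
      exact this ▸ Z.one_mem)
  set C := P ⊓ centralizer (X : Set G) with hC
  -- the centraliser of `X` is `X Z`
  have hCA : C = X ⊔ Z := by
    refine le_antisymm (fun w hw => ?_) (sup_le (le_inf hXP fun x hx y hy => (h.commute_inf hXP hXZ hy hx).eq)
      (le_inf h.le fun x hx y hy => (h.central x hx y (hXP hy)).eq.symm))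
    by_contra hwA
    have hfixX : ∀ g ∈ C, g ^ q = 1 → g ∉ X → orbProd q g v = 1 := by
      intro g hg hgq hgX
      by_contra e
      set d := orbProd q g v with hd
      have hXd : X ≤ P ⊓ stabilizer G d := fun x hx => ⟨hXP hx, by
        show x • d = d
        rw [hd, orbProd, Finset.smul_prod']
        refine Finset.prod_congr rfl fun k _ => ?_
        rw [← mul_smul, ((show Commute x g from hg.2 x hx).pow_right k).eq, mul_smul,
          show x • v = v from hx.2]⟩
      exact hgX ((eq_of_le_of_card_ge hXd (card_stab_eq hT e hv).le).ge ⟨hg.1, smul_orbProd hgq v⟩)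
    have hzC : z ∈ C := ⟨h.le hz, fun y hy => (h.central z hz y (hXP hy)).eq.symm⟩
    refine pair w hw.1 v hv (fun j hj => ?_) fun k hk => ?_
    · refine hfixX _ (mul_mem hzC (pow_mem hw j)) (hzw w hw.1 j) fun hm => ?_
      exact hout (X ⊔ Z) w hw.1 hwA j hj (by
        simpa using mul_mem (inv_mem (mem_sup_right hz : z ∈ X ⊔ Z)) (mem_sup_left hm : z * w ^ j ∈ X ⊔ Z))
    · exact hfixX _ (pow_mem hw k) (h.exp _ (pow_mem hw.1 k)) fun hm =>
        hout (X ⊔ Z) w hw.1 hwA k hk (mem_sup_left hm)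
  set t := C.relIndex P with ht
  have hPcard : Nat.card P = Nat.card X * q * t := by
    rw [← h.card_sup hXP hXZ, ← hCA, ht,
      ← Nat.card_congr (Subgroup.subgroupOfEquivOfLe (inf_le_left : C ≤ P)).toEquiv]
    exact (Subgroup.card_mul_index _).symm
  have hXt : Nat.card X ≤ t := h.card_le_relIndex hXP hXZ
  obtain ⟨r, hr⟩ : ∃ r, t = q ^ r := h.isPGroup.index (C.subgroupOf P)
  have hr1 : 1 ≤ r := by
    by_contra hc
    obtain rfl : r = 0 := by omega
    rw [pow_zero] at hr
    exact hXne (Subgroup.eq_bot_of_card_le X (hr ▸ hXt))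
  have hU : (q + 1) ^ t ≤ Nat.card U := by
    refine le_trans (Nat.pow_le_pow_left ?_ t) (h.pow_card_fixU_le hp hex hqp hXP hXZ)
    let V := fixU U X
    have hzV : ∀ k : ℕ, z ^ k • v ∈ V := fun k x hx => by
      rw [← mul_smul, ((h.central z hz x (hXP hx)).symm.pow_right k).eq, mul_smul, show x • v = v from hx.2]
    refine le_trans (le_of_eq ?_) (Nat.card_le_card_of_injective
      (fun o : Option (Fin q) => (o.elim (⟨1, one_mem V⟩ : V) fun k => ⟨z ^ (k : ℕ) • v, hzV k⟩)) ?_)
    · rw [Finite.card_option, Nat.card_eq_fintype_card, Fintype.card_fin]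
    · have hne1 : ∀ k : ℕ, z ^ k • v ≠ 1 := fun k e => hv (by
        simpa using (congrArg (fun u => (z ^ k)⁻¹ • u) e))
      have hz' : orderOf z = q := orderOf_eq_prime (h.exp z (h.le hz)) hz1
      have hinj : ∀ i j : Fin q, i ≤ j → z ^ (i : ℕ) • v = z ^ (j : ℕ) • v → i = j := by
        intro i j hij e
        by_contra hne'
        have e2 : z ^ ((j : ℕ) - i) • v = v := by
          refine smul_left_cancel (z ^ (i : ℕ)) ?_
          rw [← mul_smul, ← pow_add, Nat.add_sub_cancel' hij, ← e]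
        refine hv (h.fpf _ (pow_mem hz _) (fun e3 => ?_) v e2)
        have := orderOf_dvd_of_pow_eq_one e3
        rw [hz'] at this
        have h4 := Nat.eq_zero_of_dvd_of_lt this (by have := j.2; omega)
        exact hne' (Fin.ext (by have : (i : ℕ) ≤ j := hij; omega))
      rintro (_ | i) (_ | j) e
      · rfl
      · exact absurd (congrArg Subtype.val e).symm (hne1 j)
      · exact absurd (congrArg Subtype.val e) (hne1 i)
      · have e' : z ^ (i : ℕ) • v = z ^ (j : ℕ) • v := congrArg Subtype.val e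
        rcases le_total i j with hij | hij
        · rw [hinj i j hij e']
        · rw [hinj j i hij e'.symm]
  -- covering by the fixed spaces of single elements
  let S : Finset G := Finset.univ.filter fun x => x ∈ P ∧ x ∉ Z
  have hScard : S.card ≤ Nat.card P := by
    rw [show Nat.card P = ((P : Set G)).ncard from Nat.card_coe_set_eq _, Set.ncard_eq_toFinset_card']
    exact Finset.card_le_card fun x hx => by
      simp only [S, Finset.mem_filter] at hx
      simpa using hx.2.1
  obtain ⟨w0, hw0, hw0Z⟩ := hne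
  obtain ⟨x0, hx0, hmax⟩ := Finset.exists_max_image S (fun x => Nat.card (fixU U (Subgroup.zpowers x)))
    ⟨w0, by simp [S, hw0, hw0Z]⟩
  set m := Nat.card (fixU U (Subgroup.zpowers x0)) with hm
  have hcount : Nat.card U ≤ Nat.card P * m := by
    have hsub : (Finset.univ : Finset U) ⊆
        S.biUnion fun x => (Finset.univ.filter fun u => u ∈ fixU U (Subgroup.zpowers x)) := by
      intro u _
      simp only [Finset.mem_biUnion, Finset.mem_filter, Finset.mem_univ, true_and, S]
      rcases eq_or_ne u 1 with rfl | hu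
      · exact ⟨w0, ⟨hw0, hw0Z⟩, one_mem _⟩
      · obtain ⟨x, hx, hxZ, hxu⟩ := hcov u hu
        exact ⟨x, ⟨hx, hxZ⟩, (Subgroup.zpowers_le (H := stabilizer G u)).2 hxu⟩
    have h1 := (Finset.card_le_card hsub).trans (Finset.card_biUnion_le_card_mul S _ m fun x hx => by
      refine le_trans (le_of_eq ?_) (hmax x hx)
      rw [Nat.card_eq_fintype_card, Fintype.card_subtype])
    rw [Finset.card_univ, ← Nat.card_eq_fintype_card] at h1
    exact h1.trans (Nat.mul_le_mul_right _ hScard)
  have hx0' : x0 ∈ P ∧ x0 ∉ Z := by simpa [S] using hx0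
  have hmq : m ^ q ≤ Nat.card U := by
    have hle : Subgroup.zpowers x0 ≤ P := Subgroup.zpowers_le.2 hx0'.1
    have hinf : Subgroup.zpowers x0 ⊓ Z = ⊥ := (Subgroup.eq_bot_iff_forall _).2 fun y hy => by
      obtain ⟨k, hk⟩ := (isOfFinOrder_of_finite x0).mem_powers_iff_mem_zpowers.2 hy.1
      have hk' : x0 ^ k = y := hk
      by_cases hd : q ∣ k
      · obtain ⟨i, rfl⟩ := hd
        rw [← hk', pow_mul, h.exp x0 hx0'.1, one_pow]
      · exact absurd (hk' ▸ hy.2) (hout Z x0 hx0'.1 hx0'.2 k hd)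
    refine le_trans (Nat.pow_le_pow_right ?_ ?_) (h.pow_card_fixU_le hp hex hqp hle hinf)
    · exact Nat.card_pos
    · refine le_trans (le_of_eq ?_) (h.card_le_relIndex hle hinf)
      rw [Nat.card_zpowers, orderOf_eq_prime (h.exp x0 hx0'.1) fun e => hx0'.2 (e ▸ Z.one_mem)]
  -- arithmetic
  have hU0 : 0 < Nat.card U := Nat.card_pos
  have h1 : Nat.card U ^ (q - 1) ≤ Nat.card P ^ q := by
    refine Nat.le_of_mul_le_mul_right ?_ hU0
    rw [← pow_succ, Nat.sub_add_cancel h.hq.one_le]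
    calc Nat.card U ^ q ≤ (Nat.card P * m) ^ q := Nat.pow_le_pow_left hcount q
      _ ≤ Nat.card P ^ q * Nat.card U := by rw [mul_pow]; exact Nat.mul_le_mul_left _ hmq
  have h2 : Nat.card P ^ q ≤ q ^ ((2 * r + 1) * q) := by
    rw [pow_mul]
    refine Nat.pow_le_pow_left ?_ q
    rw [hPcard]
    calc Nat.card X * q * t ≤ t * q * t := Nat.mul_le_mul_right _ (Nat.mul_le_mul_right _ hXt)
      _ = q ^ (2 * r + 1) := by rw [hr]; ring
  have h3 : q ^ (t * (q - 1)) < q ^ ((2 * r + 1) * q) := by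
    refine lt_of_lt_of_le ?_ ((Nat.pow_le_pow_left hU (q - 1)).trans (h1.trans h2))
    rw [← pow_mul]
    exact Nat.pow_lt_pow_left (by omega) (by
      have : 0 < t := by rw [hr]; exact pow_pos h.hq.pos r
      exact Nat.mul_ne_zero this.ne' (by omega))
  have h4 := (Nat.pow_lt_pow_iff_right h.hq.one_lt).1 h3
  have h5 : 5 * (2 * r + 1) ≤ 4 * t := by
    have key : ∀ n : ℕ, 5 * (2 * (n + 1) + 1) ≤ 4 * 5 ^ (n + 1) := by
      intro n
      induction n with
      | zero => norm_num
      | succ n ih => rw [pow_succ]; omega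
    have := key (r - 1)
    rw [Nat.sub_add_cancel hr1] at this
    rw [hr]
    exact this.trans (Nat.mul_le_mul_left 4 (Nat.pow_le_pow_left hq5 r))
  have h6 : 4 * q ≤ 5 * (q - 1) := by omega
  have h7 : (5 * (2 * r + 1)) * (4 * q) ≤ (4 * t) * (5 * (q - 1)) := Nat.mul_le_mul h5 h6
  nlinarith

end ExtraType

end Cfsg.Agent.Invol.TripleNormal
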