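import Cfsg.Agent.Lib.Invol.TripleNormal.Linear
import Cfsg.Agent.Lib.Invol.TripleNormal.Colours
import Cfsg.Agent.Lib.Block.Zas.HalfBound
import Cfsg.Agent.Lib.Block.Zas.Half
import Cfsg.Agent.Lib.Grp.FrobeniusTheorem
import Cfsg.Agent.Lib.Classical.SLNormal

/-!
# An abelian regular kernel gives a Zassenhaus subgroup

`U` is normal in `G_a`, abelian and regular on the other points, `F = F(D)` with `D = H ∩ G_ab`.  All the elements
`μ_u = v' u v''` exchanging `a, b` lie in `F μ`, so `X = U F ∪ U F μ U` is a subgroup of `H` which is a Zassenhaus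
group with two-point stabilizer `F`.
-/

set_option autoImplicit false
set_option linter.style.haveILetI false

namespace Cfsg.Agent.Invol.TripleNormal

open MulAction Subgroup
open scoped commutatorElement

universe u v

variable {G : Type u} [Group G] [Finite G] {Ω : Type v} [MulAction G Ω]

omit [Finite G] in
/-- No doubly transitive group of even degree divisible by three has a regular normal subgroup. -/
theorem no_regular_normal {X : Type*} [Group X] [Finite X] [MulAction X Ω]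
    (h2 : MulAction.IsMultiplyPretransitive X Ω 2) (h3 : 3 ∣ Nat.card Ω) (he : Even (Nat.card Ω))
    (a : Ω) (N : Subgroup X) [N.Normal] (htr : MulAction.IsPretransitive N Ω) :
    ¬ ∀ x : Ω, stabilizer N x = ⊥ := by
  intro hreg
  haveI : Nonempty Ω := ⟨a⟩
  obtain ⟨-, p, hp, hpow⟩ := S0054.result h2 N htr hreg
  haveI := Fact.mk hp
  obtain ⟨k, hk⟩ := (show IsPGroup p N from fun x => ⟨1, Subtype.ext (by
    rw [pow_one, SubmonoidClass.coe_pow]; exact hpow _ x.2)⟩).exists_card_eq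
  have hcard : Nat.card Ω = Nat.card N := by
    rw [← MulAction.index_stabilizer_of_transitive N a, hreg a, Subgroup.index_bot]
  rw [hcard, hk] at h3 he
  have hp3 : 3 = p := (Nat.prime_dvd_prime_iff_eq Nat.prime_three hp).1 (Nat.prime_three.dvd_of_dvd_pow h3)
  rw [← hp3, Nat.even_pow] at he
  exact absurd he.1 (by decide)

/-- An abelian normal subgroup of `G_a` inside `H`, regular on the other points. -/
structure Kernel (H : Subgroup G) (a : Ω) (U : Subgroup G) : Prop where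
  le : U ≤ H
  fix : ∀ u ∈ U, u • a = a
  conj : ∀ g : G, g • a = a → ∀ u ∈ U, g * u * g⁻¹ ∈ U
  comm : ∀ x ∈ U, ∀ y ∈ U, Commute x y
  exp : ∃ p : ℕ, p.Prime ∧ ∀ u ∈ U, u ^ p = 1
  reg : ∀ y z : Ω, y ≠ a → z ≠ a → ∃! u : U, (u : G) • y = z

/-- The second alternative of the theorem. -/
def PSLNormal (H : Subgroup G) (Ω : Type v) : Prop :=
  ∃ (N : Subgroup ↥H) (F : Type) (_ : Field F) (_ : Fintype F), N.Normal ∧ Fintype.card F + 1 = Nat.card Ω ∧
    Nonempty (↥N ≃* Matrix.ProjectiveSpecialLinearGroup (Fin 2) F)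

namespace Kernel

variable {H : Subgroup G} {a b : Ω} {U : Subgroup G} (K : Kernel H a U)
include K

omit [Finite G] in
theorem inj {u v : G} (hu : u ∈ U) (hv : v ∈ U) {y : Ω} (hy : y ≠ a) (h : u • y = v • y) : u = v := by
  have hne : v • y ≠ a := fun e => hy (smul_left_cancel v (e.trans (K.fix v hv).symm))
  exact congrArg Subtype.val ((K.reg y (v • y) hy hne).unique (y₁ := ⟨u, hu⟩) (y₂ := ⟨v, hv⟩) h rfl)

omit [Finite G] in
theorem map_eq {g g' : G} (h : g • a = g' • a) {u : G} (hu : u ∈ U) : ∃ v ∈ U, g * u * g⁻¹ = g' * v * g'⁻¹ :=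
  ⟨(g'⁻¹ * g) * u * (g'⁻¹ * g)⁻¹, K.conj _ (by rw [mul_smul, h, inv_smul_smul]) u hu, by group⟩

theorem concl (S : TriSetup H Ω) (hab : a ≠ b)
    (hD : ¬ 3 ∣ Nat.card (stabTwo H a b) ∨ Odd (Nat.card (stabTwo H a b))) :
    colours H a b ≤ 1 ∨ (colours H a b ≤ 2 ∧ PSLNormal H Ω) := by
  classical
  haveI := S.fin
  haveI := S.faithful
  have hn3 := S.three
  have hnbig := S.big
  have hne := S.even
  set n := Nat.card Ω with hn
  have hUcard : Nat.card U + 1 = n := by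
    rw [hn, ← Nat.card_congr (Equiv.optionSubtypeNe a), Finite.card_option]
    refine congrArg (· + 1) (Nat.card_congr (Equiv.ofBijective (fun u : U =>
      (⟨(u : G) • b, fun e => hab (smul_left_cancel (u : G) ((K.fix u u.2).trans e.symm))⟩ : {y : Ω // y ≠ a}))
      ⟨fun u v e => Subtype.ext (K.inj u.2 v.2 hab.symm (congrArg Subtype.val e)), fun y => ?_⟩))
    obtain ⟨u, hu, -⟩ := K.reg b y hab.symm y.2
    exact ⟨u, Subtype.ext hu⟩
  -- the linear group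
  obtain ⟨p, hp, hexp⟩ := K.exp
  haveI := Fact.mk hp
  obtain ⟨i, hi⟩ := (show IsPGroup p U from fun x => ⟨1, Subtype.ext (by
    rw [pow_one, SubmonoidClass.coe_pow]; exact hexp _ x.2)⟩).exists_card_eq
  have hpi : p ^ i % 3 = 2 := by rw [← hi]; omega
  have hp3 : p % 3 = 2 ∧ Odd i := by
    have hmod := Nat.pow_mod p i 3
    rw [hpi] at hmod
    have h3cases : p % 3 = 0 ∨ p % 3 = 1 ∨ p % 3 = 2 := by omega
    rcases h3cases with e | e | e
    · rw [e] at hmod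
      rcases Nat.eq_zero_or_pos i with rfl | hi0
      · simp at hmod
      · rw [zero_pow hi0.ne'] at hmod; omega
    · rw [e, one_pow] at hmod; omega
    · refine ⟨e, ?_⟩
      rw [e] at hmod
      by_contra hev
      obtain ⟨j, rfl⟩ := Nat.not_odd_iff_even.1 hev
      rw [← two_mul, pow_mul, Nat.pow_mod] at hmod
      norm_num at hmod
  have hp2 : p ≠ 2 := by
    rintro rfl
    have h2 : 2 ∣ Nat.card U := by rw [hi]; exact dvd_pow_self 2 hp3.2.pos.ne'
    obtain ⟨k, hk⟩ := even_iff_two_dvd.1 hne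
    obtain ⟨l, hl⟩ := h2
    omega
  set G0 : Subgroup G := stabilizer G a ⊓ stabilizer G b with hG0
  letI : CommGroup U := { (inferInstance : Group U) with mul_comm := fun x y => Subtype.ext (K.comm _ x.2 _ y.2).eq }
  letI : MulDistribMulAction G0 U :=
    { smul := fun g u => ⟨(g : G) * u * (g : G)⁻¹, K.conj g g.2.1 u u.2⟩
      one_smul := fun u => Subtype.ext (by show (1 : G) * u * (1 : G)⁻¹ = u; simp)
      mul_smul := fun g h u => Subtype.ext (by
        show ((g : G) * h) * u * ((g : G) * h)⁻¹ = g * (h * u * (h : G)⁻¹) * (g : G)⁻¹; group)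
      smul_mul := fun g u v => Subtype.ext (by
        show (g : G) * (u * v) * (g : G)⁻¹ = (g * u * (g : G)⁻¹) * (g * v * (g : G)⁻¹); group)
      smul_one := fun g => Subtype.ext (by show (g : G) * 1 * (g : G)⁻¹ = 1; simp) }
  have hact : ∀ (g : G0) (u : U), ((g • u : U) : G) = (g : G) * u * (g : G)⁻¹ := fun _ _ => rfl
  have hub : ∀ {u : G}, u ∈ U → u ≠ 1 → u • b ≠ a ∧ u • b ≠ b := fun {u} hu hu1 =>
    ⟨fun e => hab (smul_left_cancel u ((K.fix u hu).trans e.symm)),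
      fun e => hu1 (K.inj hu (one_mem U) hab.symm (by rw [e, one_smul]))⟩
  have hG0b : ∀ g : G0, (g : G)⁻¹ • b = b := fun g => inv_smul_eq_iff.2 g.2.2.symm
  have hT : TransNe G0 U := by
    intro u w hu hw
    obtain ⟨h1, h2⟩ := hub u.2 (fun e => hu (Subtype.ext e))
    obtain ⟨h3, h4⟩ := hub w.2 (fun e => hw (Subtype.ext e))
    obtain ⟨g, ga, gb, gc⟩ := S.three_trans hab h2.symm h1.symm hab h4.symm h3.symm
    refine ⟨⟨g, ga, gb⟩, Subtype.ext (K.inj (K.conj g ga u u.2) w.2 hab.symm ?_)⟩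
    show (g * (u : G) * g⁻¹) • b = (w : G) • b
    rw [mul_smul, mul_smul, inv_smul_eq_iff.2 gb.symm, gc]
  have hfaith : FaithfulSMul G0 U := ⟨fun {g g'} hgg => Subtype.ext (eq_of_smul_eq_smul (α := Ω) fun y => by
    rcases eq_or_ne y a with rfl | hy
    · exact g.2.1.trans g'.2.1.symm
    obtain ⟨u, hu, -⟩ := K.reg b y hab.symm hy
    have e := congrArg (fun z : U => (z : G) • b) (hgg u)
    simp only [hact, mul_smul, hG0b, hu] at e
    exact e)⟩
  have hL : LinHyp G0 U p i := ⟨hp, hp2, hp3.1, hp3.2, hi, fun u => Subtype.ext (by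
    rw [SubmonoidClass.coe_pow]; exact hexp _ u.2), hT, hfaith⟩
  set D0 : Subgroup G0 := (stabTwo H a b).subgroupOf G0 with hD0
  have hDle : stabTwo H a b ≤ G0 := inf_le_right
  haveI : D0.Normal := ⟨fun x hx g => mem_subgroupOf.2
    ⟨S.normal.conj_mem _ (mem_subgroupOf.1 hx).1 (g : G), (g * x * g⁻¹ : G0).2⟩⟩
  have hcardD : Nat.card D0 = Nat.card (stabTwo H a b) :=
    Nat.card_congr (Subgroup.subgroupOfEquivOfLe hDle).toEquiv
  obtain ⟨hFcyc, hFfpf, hFcent⟩ := hL.fitting (D := D0) (by rwa [hcardD])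
  set Fz := (Cfsg.fittingSubgroup D0).map D0.subtype with hFz
  set F := Fz.map G0.subtype with hF
  have hFD : F ≤ stabTwo H a b := by
    rintro _ ⟨x, ⟨y, -, rfl⟩, rfl⟩
    exact mem_subgroupOf.1 y.2
  have hFfpf' : ∀ f ∈ F, f ≠ 1 → ∀ y : Ω, y ≠ a → f • y = y → y = b := by
    rintro _ ⟨f, hf, rfl⟩ hf1 y hy hfy
    obtain ⟨u, hu, -⟩ := K.reg b y hab.symm hy
    have e := hFfpf f hf (fun e => hf1 (by rw [e]; rfl)) u (Subtype.ext (K.inj (K.conj _ f.2.1 u u.2) u.2 hab.symm (by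
      show ((f : G) * (u : G) * (f : G)⁻¹) • b = (u : G) • b
      rw [mul_smul, mul_smul, hG0b, hu]; exact hfy)))
    rw [← hu, e]
    exact one_smul G b
  -- elements exchanging `a` and `b` normalise `F`
  have hFconj : ∀ g : G, (g • a = a ∧ g • b = b) ∨ (g • a = b ∧ g • b = a) → ∀ f ∈ F, g * f * g⁻¹ ∈ F := by
    intro g hg
    have hDg : ∀ {k : G}, (k • a = a ∧ k • b = b) ∨ (k • a = b ∧ k • b = a) →
        ∀ d ∈ stabTwo H a b, k * d * k⁻¹ ∈ stabTwo H a b := by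
      intro k hk d hd
      refine ⟨S.normal.conj_mem d hd.1 k, ?_, ?_⟩ <;> rcases hk with ⟨ka, kb⟩ | ⟨ka, kb⟩
      · show (k * d * k⁻¹) • a = a
        rw [mul_smul, mul_smul, inv_smul_eq_iff.2 ka.symm, hd.2.1, ka]
      · show (k * d * k⁻¹) • a = a
        rw [mul_smul, mul_smul, inv_smul_eq_iff.2 kb.symm, hd.2.2, kb]
      · show (k * d * k⁻¹) • b = b
        rw [mul_smul, mul_smul, inv_smul_eq_iff.2 kb.symm, hd.2.2, kb]
      · show (k * d * k⁻¹) • b = b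
        rw [mul_smul, mul_smul, inv_smul_eq_iff.2 ka.symm, hd.2.1, ka]
    have hg' : (g⁻¹ • a = a ∧ g⁻¹ • b = b) ∨ (g⁻¹ • a = b ∧ g⁻¹ • b = a) := hg.imp
      (fun h => ⟨inv_smul_eq_iff.2 h.1.symm, inv_smul_eq_iff.2 h.2.symm⟩)
      (fun h => ⟨inv_smul_eq_iff.2 h.2.symm, inv_smul_eq_iff.2 h.1.symm⟩)
    let φ : D0 ≃* D0 :=
      { toFun := fun d => ⟨⟨g * ((d : G0) : G) * g⁻¹, hDle (hDg hg _ (mem_subgroupOf.1 d.2))⟩,
          mem_subgroupOf.2 (hDg hg _ (mem_subgroupOf.1 d.2))⟩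
        invFun := fun d => ⟨⟨g⁻¹ * ((d : G0) : G) * g⁻¹⁻¹, hDle (hDg hg' _ (mem_subgroupOf.1 d.2))⟩,
          mem_subgroupOf.2 (hDg hg' _ (mem_subgroupOf.1 d.2))⟩
        left_inv := fun d => Subtype.ext (Subtype.ext (by simp [mul_assoc]))
        right_inv := fun d => Subtype.ext (Subtype.ext (by simp [mul_assoc]))
        map_mul' := fun d e => Subtype.ext (Subtype.ext (by simp [mul_assoc])) }
    rintro _ ⟨_, ⟨d, hd, rfl⟩, rfl⟩
    refine ⟨_, ⟨φ d, ?_, rfl⟩, rfl⟩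
    exact (Subgroup.characteristic_iff_map_eq.1 inferInstance φ).le ⟨d, hd, rfl⟩
  -- commutators lie in `F`
  have hcommF : ∀ c μ : G, c • a = a → c • b = b → μ ∈ H → μ • a = b → μ • b = a → ⁅c, μ⁆ ∈ F := by
    intro c μ ca cb hμH μa μb
    have hcm : ⁅c, μ⁆ ∈ stabTwo H a b := by
      refine mem_stabTwo.2 ⟨?_, ?_, ?_⟩
      · rw [commutatorElement_def]
        exact mul_mem (S.normal.conj_mem μ hμH c) (inv_mem hμH)
      · show ⁅c, μ⁆ • a = a
        rw [commutatorElement_def, mul_smul, mul_smul, mul_smul, inv_smul_eq_iff.2 μb.symm,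
          inv_smul_eq_iff.2 cb.symm, μb, ca]
      · show ⁅c, μ⁆ • b = b
        rw [commutatorElement_def, mul_smul, mul_smul, mul_smul, inv_smul_eq_iff.2 μa.symm,
          inv_smul_eq_iff.2 ca.symm, μa, cb]
    obtain ⟨⟨g0, hg0F⟩, hgen⟩ := hFcyc.exists_generator
    have hpow : ∀ k : G, (∀ f ∈ F, k * f * k⁻¹ ∈ F) → ∃ j : ℤ, k * (g0 : G) * k⁻¹ = (g0 : G) ^ j := by
      intro k hk
      obtain ⟨z, hz, hzk⟩ := hk _ ⟨g0, hg0F, rfl⟩
      obtain ⟨j, hj⟩ := Subgroup.mem_zpowers_iff.1 (hgen ⟨z, hz⟩)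
      refine ⟨j, hzk.symm.trans ?_⟩
      have := congrArg (fun x : Fz => ((x : G0) : G)) hj
      simpa using this.symm
    obtain ⟨i1, h1⟩ := hpow c (hFconj c (Or.inl ⟨ca, cb⟩))
    obtain ⟨j1, h2⟩ := hpow μ (hFconj μ (Or.inr ⟨μa, μb⟩))
    have hconj : ∀ (k : G) (j l : ℤ), k * (g0 : G) * k⁻¹ = (g0 : G) ^ j →
        k * (g0 : G) ^ l * k⁻¹ = (g0 : G) ^ (j * l) := fun k j l e => by
      rw [← conj_zpow, e, ← zpow_mul]
    have hkey : ∀ f ∈ F, (c * μ) * f * (c * μ)⁻¹ = (μ * c) * f * (μ * c)⁻¹ := by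
      rintro _ ⟨z, hz, rfl⟩
      obtain ⟨l, hl⟩ := Subgroup.mem_zpowers_iff.1 (hgen ⟨z, hz⟩)
      have hl' : (g0 : G) ^ l = (z : G) := by simpa using congrArg (fun x : Fz => ((x : G0) : G)) hl
      show (c * μ) * (z : G) * (c * μ)⁻¹ = (μ * c) * (z : G) * (μ * c)⁻¹
      rw [← hl', show (c * μ) * (g0 : G) ^ l * (c * μ)⁻¹ = c * (μ * (g0 : G) ^ l * μ⁻¹) * c⁻¹ by group,
        show (μ * c) * (g0 : G) ^ l * (μ * c)⁻¹ = μ * (c * (g0 : G) ^ l * c⁻¹) * μ⁻¹ by group,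
        hconj μ j1 l h2, hconj c i1 l h1, hconj c i1 _ h1, hconj μ j1 _ h2, mul_left_comm]
    have hmem := hFcent ⟨⁅c, μ⁆, hDle hcm⟩ (mem_subgroupOf.2 hcm) (fun f hf => Subtype.ext ?_)
    · exact ⟨_, hmem, rfl⟩
    show ⁅c, μ⁆ * (f : G) = (f : G) * ⁅c, μ⁆
    have hy : (μ * c)⁻¹ * (f : G) * (μ * c) ∈ F := by
      have h3 := hFconj c⁻¹ (Or.inl ⟨inv_smul_eq_iff.2 ca.symm, inv_smul_eq_iff.2 cb.symm⟩) _
        (hFconj μ⁻¹ (Or.inr ⟨inv_smul_eq_iff.2 μb.symm, inv_smul_eq_iff.2 μa.symm⟩) _ ⟨f, hf, rfl⟩)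
      simpa [mul_assoc] using h3
    have h4 := hkey _ hy
    calc ⁅c, μ⁆ * (f : G)
        = (c * μ) * ((μ * c)⁻¹ * (f : G) * (μ * c)) * (c * μ)⁻¹ * ⁅c, μ⁆ := by
          rw [commutatorElement_def]; group
      _ = (f : G) * ⁅c, μ⁆ := by rw [h4]; group
  -- the exchanging elements
  obtain ⟨w0, hw0H, w0a, w0b⟩ := S.two_trans_H hab hab.symm
  set B := U.map (MulAut.conj w0).toMonoidHom with hB
  have hBfix : ∀ v ∈ B, v • b = b := by
    rintro _ ⟨u, hu, rfl⟩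
    show (w0 * u * w0⁻¹) • b = b
    rw [mul_smul, mul_smul, inv_smul_eq_iff.2 w0a.symm, K.fix u hu, w0a]
  have hBreg : ∀ y z : Ω, y ≠ b → z ≠ b → ∃ v ∈ B, v • y = z ∧ ∀ v' ∈ B, v' • y = z → v' = v := by
    intro y z hy hz
    have hy' : w0⁻¹ • y ≠ a := fun e => hy (by rw [← w0a, ← e, smul_inv_smul])
    have hz' : w0⁻¹ • z ≠ a := fun e => hz (by rw [← w0a, ← e, smul_inv_smul])
    obtain ⟨u, hu, huniq⟩ := K.reg _ _ hy' hz'
    refine ⟨w0 * u * w0⁻¹, ⟨u, u.2, rfl⟩, by rw [mul_smul, mul_smul, hu, smul_inv_smul], ?_⟩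
    rintro _ ⟨u', hu', rfl⟩ he
    have he' : u' • w0⁻¹ • y = w0⁻¹ • z := by
      rw [← he]
      show u' • w0⁻¹ • y = w0⁻¹ • (w0 * u' * w0⁻¹) • y
      rw [mul_smul, mul_smul, inv_smul_smul]
    have e3 : u' = (u : G) := congrArg (fun z : U => (z : G)) (huniq ⟨u', hu'⟩ he')
    show w0 * u' * w0⁻¹ = w0 * (u : G) * w0⁻¹
    rw [e3]
  let IsMu : G → G → Prop := fun u μ =>
    ∃ v' ∈ B, ∃ v'' ∈ B, μ = v' * u * v'' ∧ μ • a = b ∧ μ • b = a
  have hBH : ∀ v ∈ B, v ∈ H := by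
    rintro _ ⟨u, hu, rfl⟩
    exact mul_mem (mul_mem hw0H (K.le hu)) (inv_mem hw0H)
  have hMuH : ∀ u ∈ U, ∀ μ, IsMu u μ → μ ∈ H := by
    rintro u hu μ ⟨v', hv', v'', hv'', rfl, -⟩
    exact mul_mem (mul_mem (hBH _ hv') (K.le hu)) (hBH _ hv'')
  have hMuEx : ∀ u ∈ U, u ≠ 1 → ∃ μ, IsMu u μ := by
    intro u hu hu1
    obtain ⟨-, h2⟩ := hub hu hu1
    have h3 : u⁻¹ • b ≠ b := fun e => h2 (by conv_lhs => rw [← e, smul_inv_smul])
    obtain ⟨v'', hv'', e1, -⟩ := hBreg a (u⁻¹ • b) hab h3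
    obtain ⟨v', hv', e2, -⟩ := hBreg (u • b) a h2 hab
    exact ⟨v' * u * v'', v', hv', v'', hv'', rfl,
      by rw [mul_smul, mul_smul, e1, smul_inv_smul, hBfix v' hv'],
      by rw [mul_smul, mul_smul, hBfix v'' hv'', e2]⟩
  have hMuUniq : ∀ u ∈ U, ∀ μ μ', u ≠ 1 → IsMu u μ → IsMu u μ' → μ = μ' := by
    intro u hu μ μ' hu1 ⟨v', hv', v'', hv'', e, ea, eb⟩ ⟨w', hw', w'', hw'', f, fa, fb⟩
    obtain ⟨-, h2⟩ := hub hu hu1
    have key : ∀ x ∈ B, ∀ y ∈ B, ∀ ν, ν = x * u * y → ν • a = b → ν • b = a →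
        y • a = u⁻¹ • b ∧ x • u • b = a := by
      intro x hx y hy ν hν νa νb
      rw [hν, mul_smul, mul_smul] at νa νb
      rw [hBfix y hy] at νb
      exact ⟨eq_inv_smul_iff.2 (smul_left_cancel x (νa.trans (hBfix x hx).symm)), νb⟩
    obtain ⟨k1, k2⟩ := key v' hv' v'' hv'' μ e ea eb
    obtain ⟨l1, l2⟩ := key w' hw' w'' hw'' μ' f fa fb
    have h3 : u⁻¹ • b ≠ b := fun e => h2 (by conv_lhs => rw [← e, smul_inv_smul])
    obtain ⟨x1, -, -, hx1⟩ := hBreg a (u⁻¹ • b) hab h3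
    obtain ⟨x2, -, -, hx2⟩ := hBreg (u • b) a h2 hab
    rw [e, f, hx1 v'' hv'' k1, hx1 w'' hw'' l1, hx2 v' hv' k2, hx2 w' hw' l2]
  have hMuConj : ∀ c : G, c • a = a → c • b = b → ∀ u μ, IsMu u μ → IsMu (c * u * c⁻¹) (c * μ * c⁻¹) := by
    rintro c ca cb u μ ⟨v', hv', v'', hv'', e, ea, eb⟩
    have hcB : ∀ v ∈ B, c * v * c⁻¹ ∈ B := by
      rintro _ ⟨x, hx, rfl⟩
      obtain ⟨y, hy, he⟩ := K.map_eq (g := c * w0) (g' := w0) (by rw [mul_smul, w0a, cb]) hx
      exact ⟨y, hy, by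
        show w0 * y * w0⁻¹ = c * (w0 * x * w0⁻¹) * c⁻¹
        rw [← he]; group⟩
    refine ⟨c * v' * c⁻¹, hcB v' hv', c * v'' * c⁻¹, hcB v'' hv'', by rw [e]; group, ?_, ?_⟩
    · rw [mul_smul, mul_smul, inv_smul_eq_iff.2 ca.symm, ea, cb]
    · rw [mul_smul, mul_smul, inv_smul_eq_iff.2 cb.symm, eb, ca]
  obtain ⟨u1, hu1, hu1ne⟩ := U.bot_or_exists_ne_one.resolve_left fun e => by
    rw [e, Subgroup.card_bot] at hUcard; omega
  obtain ⟨μ, hμ⟩ := hMuEx u1 hu1 hu1ne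
  have μa : μ • a = b := by obtain ⟨-, -, -, -, -, e, -⟩ := hμ; exact e
  have μb : μ • b = a := by obtain ⟨-, -, -, -, -, -, e⟩ := hμ; exact e
  have hμH : μ ∈ H := hMuH u1 hu1 μ hμ
  have hallmu : ∀ u ∈ U, u ≠ 1 → ∀ ν, IsMu u ν → ν * μ⁻¹ ∈ F := by
    intro u hu hu1' ν hν
    obtain ⟨c, hc⟩ := hT ⟨u1, hu1⟩ ⟨u, hu⟩ (fun e => hu1ne (congrArg Subtype.val e))
      (fun e => hu1' (congrArg Subtype.val e))
    have hc' : (c : G) * u1 * (c : G)⁻¹ = u := congrArg Subtype.val hc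
    have h1 := hMuConj c c.2.1 c.2.2 u1 μ hμ
    rw [hc'] at h1
    rw [hMuUniq u hu ν _ hu1' hν h1, ← commutatorElement_def]
    exact hcommF c μ c.2.1 c.2.2 hμH μa μb
  have μia : μ⁻¹ • a = b := inv_smul_eq_iff.2 μb.symm
  have μib : μ⁻¹ • b = a := inv_smul_eq_iff.2 μa.symm
  have hμ2 : μ * μ ∈ F := by
    obtain ⟨v', hv', v'', hv'', e, -⟩ := hμ
    have h1 : IsMu u1⁻¹ μ⁻¹ := ⟨v''⁻¹, inv_mem hv'', v'⁻¹, inv_mem hv', by rw [e]; group, μia, μib⟩
    have h2 := hallmu u1⁻¹ (inv_mem hu1) (inv_ne_one.2 hu1ne) μ⁻¹ h1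
    rw [← mul_inv_rev] at h2
    exact inv_mem_iff.1 h2
  have hFswap : ∀ f ∈ F, μ * f * μ⁻¹ ∈ F := hFconj μ (Or.inr ⟨μa, μb⟩)
  have hFswap' : ∀ f ∈ F, μ⁻¹ * f * μ ∈ F := fun f hf => by
    simpa using hFconj μ⁻¹ (Or.inr ⟨μia, μib⟩) f hf
  have hFU : ∀ f ∈ F, ∀ u ∈ U, f * u * f⁻¹ ∈ U := fun f hf u hu => K.conj f (hFD hf).2.1 u hu
  -- the closed set
  let Xs : Set G := {g | (∃ u ∈ U, ∃ f ∈ F, g = u * f) ∨ ∃ u ∈ U, ∃ f ∈ F, ∃ u' ∈ U, g = u * f * μ * u'}
  have hXU : ∀ u ∈ U, ∀ x ∈ Xs, u * x ∈ Xs := by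
    rintro u hu x (⟨u', hu', f, hf, rfl⟩ | ⟨u', hu', f, hf, u'', hu'', rfl⟩)
    · exact Or.inl ⟨u * u', mul_mem hu hu', f, hf, by group⟩
    · exact Or.inr ⟨u * u', mul_mem hu hu', f, hf, u'', hu'', by group⟩
  have hXF : ∀ f ∈ F, ∀ x ∈ Xs, f * x ∈ Xs := by
    rintro f hf x (⟨u', hu', f', hf', rfl⟩ | ⟨u', hu', f', hf', u'', hu'', rfl⟩)
    · exact Or.inl ⟨f * u' * f⁻¹, hFU f hf u' hu', f * f', mul_mem hf hf', by group⟩
    · exact Or.inr ⟨f * u' * f⁻¹, hFU f hf u' hu', f * f', mul_mem hf hf', u'', hu'', by group⟩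
  have hXFr : ∀ f ∈ F, ∀ x ∈ Xs, x * f ∈ Xs := by
    rintro f hf x (⟨u', hu', f', hf', rfl⟩ | ⟨u', hu', f', hf', u'', hu'', rfl⟩)
    · exact Or.inl ⟨u', hu', f' * f, mul_mem hf' hf, by group⟩
    · exact Or.inr ⟨u', hu', f' * (μ * f * μ⁻¹), mul_mem hf' (hFswap f hf), f⁻¹ * u'' * f⁻¹⁻¹,
        hFU _ (inv_mem hf) _ hu'', by group⟩
  have hXUr : ∀ u ∈ U, ∀ x ∈ Xs, x * u ∈ Xs := by
    rintro u hu x (⟨u', hu', f', hf', rfl⟩ | ⟨u', hu', f', hf', u'', hu'', rfl⟩)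
    · exact Or.inl ⟨u' * (f' * u * f'⁻¹), mul_mem hu' (hFU f' hf' u hu), f', hf', by group⟩
    · exact Or.inr ⟨u', hu', f', hf', u'' * u, mul_mem hu'' hu, by group⟩
  have hmm : ∀ u ∈ U, μ * u * μ ∈ Xs := by
    intro u hu
    rcases eq_or_ne u 1 with rfl | hu1'
    · exact Or.inl ⟨1, one_mem _, μ * μ, hμ2, by group⟩
    obtain ⟨ν, hν⟩ := hMuEx u hu hu1'
    have hf := hallmu u hu hu1' ν hν
    obtain ⟨v', hv', v'', hv'', e, -⟩ := hν
    obtain ⟨s, hs, hs'⟩ := inv_mem hv'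
    obtain ⟨t, ht, ht'⟩ := inv_mem hv''
    obtain ⟨s', hs1, hs2⟩ := K.map_eq (g := w0) (g' := μ⁻¹) (by rw [w0a, μia]) hs
    obtain ⟨t', ht1, ht2⟩ := K.map_eq (g := w0) (g' := μ) (by rw [w0a, μa]) ht
    refine Or.inr ⟨s', hs1, μ * (ν * μ⁻¹) * μ⁻¹ * (μ * μ), mul_mem (hFswap _ hf) hμ2, t', ht1, ?_⟩
    have e1 : v'⁻¹ = μ⁻¹ * s' * μ := by
      have hs'' : w0 * s * w0⁻¹ = v'⁻¹ := hs'
      rw [← hs'', hs2]; group
    have e2 : v''⁻¹ = μ * t' * μ⁻¹ := by
      have ht'' : w0 * t * w0⁻¹ = v''⁻¹ := ht'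
      rw [← ht'', ht2]
    calc μ * u * μ = μ * (v'⁻¹ * ν * v''⁻¹) * μ := by rw [e]; group
      _ = s' * (μ * (ν * μ⁻¹) * μ⁻¹ * (μ * μ)) * μ * t' := by rw [e1, e2]; group
  have hXmu : ∀ x ∈ Xs, μ * x ∈ Xs := by
    rintro x (⟨u', hu', f', hf', rfl⟩ | ⟨u', hu', f', hf', u'', hu'', rfl⟩)
    · rw [← mul_assoc]
      exact hXFr f' hf' _ (Or.inr ⟨1, one_mem _, 1, one_mem _, u', hu', by group⟩)
    · rw [show μ * (u' * f' * μ * u'') = μ * u' * μ * (μ⁻¹ * f' * μ) * u'' by group]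
      exact hXUr u'' hu'' _ (hXFr _ (hFswap' f' hf') _ (hmm u' hu'))
  have hXmul : ∀ x ∈ Xs, ∀ y ∈ Xs, x * y ∈ Xs := by
    rintro x (⟨u', hu', f', hf', rfl⟩ | ⟨u', hu', f', hf', u'', hu'', rfl⟩) y hy
    · rw [mul_assoc]; exact hXU u' hu' _ (hXF f' hf' y hy)
    · rw [mul_assoc, mul_assoc, mul_assoc]
      exact hXU u' hu' _ (hXF f' hf' _ (hXmu _ (hXU u'' hu'' y hy)))
  have hXone : (1 : G) ∈ Xs := Or.inl ⟨1, one_mem _, 1, one_mem _, (one_mul 1).symm⟩
  have hXpow : ∀ x ∈ Xs, ∀ k : ℕ, x ^ k ∈ Xs := fun x hx k => by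
    induction k with
    | zero => rw [pow_zero]; exact hXone
    | succ k ih => rw [pow_succ]; exact hXmul _ ih _ hx
  let X : Subgroup G :=
    { carrier := Xs
      one_mem' := hXone
      mul_mem' := fun hx hy => hXmul _ hx _ hy
      inv_mem' := fun {x} hx => by
        have hmem : x⁻¹ ∈ Submonoid.powers x :=
          (isOfFinOrder_of_finite x).mem_powers_iff_mem_zpowers.2 (inv_mem (Subgroup.mem_zpowers x))
        obtain ⟨k, hk⟩ := hmem
        exact hk ▸ hXpow x hx k }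
  have hXmem : ∀ x, x ∈ X ↔ x ∈ Xs := fun x => Iff.rfl
  have hUX : U ≤ X := fun u hu => Or.inl ⟨u, hu, 1, one_mem _, (mul_one u).symm⟩
  have hFX : F ≤ X := fun f hf => Or.inl ⟨1, one_mem _, f, hf, (one_mul f).symm⟩
  have hμX : μ ∈ X := Or.inr ⟨1, one_mem _, 1, one_mem _, 1, one_mem _, by group⟩
  have hXH : X ≤ H := by
    rintro x (⟨u', hu', f', hf', rfl⟩ | ⟨u', hu', f', hf', u'', hu'', rfl⟩)
    · exact mul_mem (K.le hu') (hFD hf').1
    · exact mul_mem (mul_mem (mul_mem (K.le hu') (hFD hf').1) hμH) (K.le hu'')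
  have hXstab : ∀ x ∈ X, x • a = a → x • b = b → x ∈ F := by
    rintro x (⟨u', hu', f', hf', rfl⟩ | ⟨u', hu', f', hf', u'', hu'', rfl⟩) xa xb
    · rw [mul_smul, (hFD hf').2.2] at xb
      rw [K.inj hu' (one_mem U) hab.symm (by rw [xb, one_smul]), one_mul]
      exact hf'
    · rw [mul_smul, mul_smul, mul_smul, K.fix u'' hu'', μa, (hFD hf').2.2] at xa
      exact absurd (smul_left_cancel u' ((K.fix u' hu').trans xa.symm)) hab
  have htwo : ∀ {x y : Ω}, x ≠ y → ∃ g ∈ X, g • a = x ∧ g • b = y := by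
    intro x y hxy
    obtain ⟨g1, hg1, hg1a⟩ : ∃ g ∈ X, g • a = x := by
      rcases eq_or_ne x a with rfl | hx
      · exact ⟨1, one_mem _, one_smul G x⟩
      · obtain ⟨u, hu, -⟩ := K.reg b x hab.symm hx
        exact ⟨(u : G) * μ, mul_mem (hUX u.2) hμX, by rw [mul_smul, μa, hu]⟩
    have hy : g1⁻¹ • y ≠ a := fun e => hxy (by rw [← hg1a, ← e, smul_inv_smul])
    obtain ⟨u, hu, -⟩ := K.reg b _ hab.symm hy
    exact ⟨g1 * u, mul_mem hg1 (hUX u.2), by rw [mul_smul, K.fix u u.2, hg1a],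
      by rw [mul_smul, hu, smul_inv_smul]⟩
  have htwo' : ∀ {x y z w : Ω}, x ≠ y → z ≠ w → ∃ g : X, g • x = z ∧ g • y = w := by
    intro x y z w hxy hzw
    obtain ⟨g, hg, ga, gb⟩ := htwo hxy
    obtain ⟨k, hk, ka, kb⟩ := htwo hzw
    exact ⟨⟨k * g⁻¹, mul_mem hk (inv_mem hg)⟩,
      (by show (k * g⁻¹) • x = z; rw [mul_smul, ← ga, inv_smul_smul, ka]),
      (by show (k * g⁻¹) • y = w; rw [mul_smul, ← gb, inv_smul_smul, kb])⟩
  have hfree : ∀ (g : X) (x y z : Ω), x ≠ y → y ≠ z → x ≠ z → g • x = x → g • y = y → g • z = z → g = 1 := by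
    intro g x y z hxy hyz hxz gx gy gz
    obtain ⟨k, hk, ka, kb⟩ := htwo hxy
    have hmem : k⁻¹ * (g : G) * k ∈ F := hXstab _ (mul_mem (mul_mem (inv_mem hk) g.2) hk)
      (by rw [mul_smul, mul_smul, ka, show (g : G) • x = x from gx, ← ka, inv_smul_smul])
      (by rw [mul_smul, mul_smul, kb, show (g : G) • y = y from gy, ← kb, inv_smul_smul])
    by_contra hg1
    have h1 : k⁻¹ * (g : G) * k ≠ 1 := fun e => hg1 (Subtype.ext (by
      rw [show (g : G) = k * (k⁻¹ * (g : G) * k) * k⁻¹ by group, e]; simp))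
    have hz1 : k⁻¹ • z ≠ a := fun e => hxz (by rw [← ka, ← e, smul_inv_smul])
    have := hFfpf' _ hmem h1 (k⁻¹ • z) hz1 (by
      rw [mul_smul, mul_smul, smul_inv_smul, show (g : G) • z = z from gz])
    exact hyz (by rw [← kb, ← this, smul_inv_smul])
  have hX2 : MulAction.IsMultiplyPretransitive X Ω 2 :=
    MulAction.is_two_pretransitive_iff.2 fun h1 h2 => htwo' h1 h2
  haveI hXfaith : FaithfulSMul X Ω := ⟨fun h => Subtype.ext (eq_of_smul_eq_smul fun y : Ω => h y)⟩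
  -- `F` is not trivial
  have hFne : ∃ g : X, g ≠ 1 ∧ (g : G) ∈ F := by
    by_contra hc
    push Not at hc
    haveI := Fintype.ofFinite X
    have hF1 : ∀ f ∈ F, f = 1 := fun f hf => by
      by_contra h
      exact hc ⟨f, hFX hf⟩ (fun e => h (congrArg Subtype.val e)) hf
    set St : Subgroup X := stabilizer X a with hSt
    have hfrob : Cfsg.IsFrobeniusComplement St := by
      refine ⟨fun e => hu1ne ?_, fun e => hab ?_, fun g hg => ?_⟩
      · have : (⟨u1, hUX hu1⟩ : X) ∈ St := K.fix u1 hu1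
        rw [e, mem_bot] at this
        exact congrArg Subtype.val this
      · have h1 : (⟨μ, hμX⟩ : X) ∈ St := e ▸ mem_top _
        exact (show μ • a = a from h1).symm.trans μa
      · refine (Subgroup.eq_bot_iff_forall _).2 fun x hx => ?_
        obtain ⟨y, hy, hyx⟩ := Subgroup.mem_map.1 (show x ∈ St.map (MulAut.conj g).toMonoidHom from hx.2)
        have hga : (g : G) • a ≠ a := fun e => hg e
        obtain ⟨k, hk, ka, kb⟩ := htwo hga.symm
        have hxa : (x : G) • a = a := hx.1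
        have hxg : (x : G) • (g : G) • a = (g : G) • a := by
          rw [← hyx]
          show ((g : G) * (y : G) * (g : G)⁻¹) • (g : G) • a = (g : G) • a
          rw [mul_smul, mul_smul, inv_smul_smul, show (y : G) • a = a from hy]
        have hmem := hF1 _ (hXstab _ (mul_mem (mul_mem (inv_mem hk) x.2) hk)
          (by rw [mul_smul, mul_smul, ka, hxa, inv_smul_eq_iff, ka])
          (by rw [mul_smul, mul_smul, kb, hxg, ← kb, inv_smul_smul]))
        refine Subtype.ext ?_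
        rw [show (x : G) = k * (k⁻¹ * (x : G) * k) * k⁻¹ by group, hmem]; simp
    obtain ⟨N, -, hNn, hNc, -⟩ := Cfsg.Agent.Grp.frobenius_kernel_spec hfrob
    haveI := hNn
    haveI : MulAction.IsPreprimitive X Ω := MulAction.isPreprimitive_of_is_two_pretransitive hX2
    haveI : MulAction.IsPretransitive X Ω := inferInstance
    have hNcard : Nat.card N = n := by
      have h1 := hNc.card_mul_card
      rw [← St.index_mul_card, hSt, MulAction.index_stabilizer_of_transitive X a, ← hn] at h1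
      exact Nat.eq_of_mul_eq_mul_right Nat.card_pos h1
    have hNne : N ≠ ⊥ := fun e => by rw [e, Subgroup.card_bot] at hNcard; omega
    haveI htr := Cfsg.Agent.Block.transitive_of_normal (G := X) (α := Ω) hNne
    refine no_regular_normal hX2 hn3 hne a N htr fun y => ?_
    haveI := htr
    have h2 := (stabilizer N y).card_mul_index
    rw [MulAction.index_stabilizer_of_transitive N y, hNcard] at h2
    refine Subgroup.card_eq_one.1 (Nat.eq_of_mul_eq_mul_right (show 0 < n by omega) ?_)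
    rw [one_mul]; exact h2
  have hZ : Cfsg.IsZassenhausGroup X Ω := by
    refine ⟨hXfaith, hX2, hfree, ?_, fun N hN htr => ?_⟩
    · obtain ⟨g, hg1, hgF⟩ := hFne
      exact ⟨g, hg1, a, b, hab, (hFD hgF).2.1, (hFD hgF).2.2⟩
    · by_contra hc
      push Not at hc
      haveI := hN
      exact no_regular_normal hX2 hn3 hne a N htr hc
  let D : Block.Zas.Frame X Ω :=
    { a := a, b := b, F := U.subgroupOf X, hab := hab, free3 := hfree, two := htwo'
      F_fix := fun u hu => K.fix _ (mem_subgroupOf.1 hu)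
      F_conj := fun g hg u hu => mem_subgroupOf.2 (K.conj (g : G) hg _ (mem_subgroupOf.1 hu))
      F_reg := fun y z hy hz => by
        obtain ⟨u, hu, huniq⟩ := K.reg y z hy hz
        exact ⟨⟨⟨u, hUX u.2⟩, mem_subgroupOf.2 u.2⟩, hu, fun w hw => Subtype.ext (Subtype.ext
          (congrArg (fun z : U => (z : G)) (huniq ⟨((w : X) : G), mem_subgroupOf.1 w.2⟩ hw)))⟩ }
  have hcF : ∀ x ∈ D.F, ∀ y ∈ D.F, x * y = y * x := fun x hx y hy =>
    Subtype.ext (K.comm _ (mem_subgroupOf.1 hx) _ (mem_subgroupOf.1 hy)).eq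
  have hDF : Nat.card D.F = Nat.card U := Nat.card_congr (Subgroup.subgroupOfEquivOfLe hUX).toEquiv
  have hDH : Nat.card D.H = Nat.card F := Nat.card_congr
    { toFun := fun g => ⟨((g : X) : G), hXstab _ (g : X).2 g.2.1 g.2.2⟩
      invFun := fun f => ⟨⟨f, hFX f.2⟩, (hFD f.2).2.1, (hFD f.2).2.2⟩
      left_inv := fun g => rfl
      right_inv := fun f => rfl }
  -- the colours are bounded by the orbits of `F`
  have hcol : colours H a b * Nat.card F ≤ Nat.card (Others a b) := by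
    letI := othersAction H a b
    letI : MulAction F (Others a b) := MulAction.compHom _ (Subgroup.inclusion hFD)
    rw [Block.Zas.card_of_free (H := F) (X := Others a b) fun f c hc => ?_]
    · refine Nat.mul_le_mul_right _ (Nat.card_le_card_of_surjective
        (Quotient.lift (fun c => (Quotient.mk'' c : orbitRel.Quotient (stabTwo H a b) (Others a b))) ?_) ?_)
      · rintro c c' ⟨g, rfl⟩
        exact Quotient.sound' ⟨Subgroup.inclusion hFD g, rfl⟩
      · intro q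
        induction q using Quotient.inductionOn with
        | h c => exact ⟨Quotient.mk'' c, rfl⟩
    · by_contra hf1
      exact c.2.2 (hFfpf' _ f.2 (fun e => hf1 (Subtype.ext e)) _ c.2.1 (congrArg Subtype.val hc))
  have hF0 : 0 < Nat.card F := Nat.card_pos
  have hoth := S.card_others hab
  rcases D.cases_of_abelian hZ hcF with hfull | ⟨hhalf, hinv⟩
  · left
    rw [hDH, hDF] at hfull
    have h1 : colours H a b * Nat.card F ≤ 1 * Nat.card F := by rw [one_mul]; omega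
    exact Nat.le_of_mul_le_mul_right h1 hF0
  right
  obtain ⟨L, iL, iLf, -, hLcard, ⟨e⟩⟩ := D.iso_psl_of_half (D.two_le_F hZ) (D.H_ne_bot hZ) hhalf hinv
  rw [hDH, hDF] at hhalf
  refine ⟨Nat.le_of_mul_le_mul_right (show colours H a b * Nat.card F ≤ 2 * Nat.card F by omega) hF0, ?_⟩
  haveI hsimp : IsSimpleGroup (Matrix.ProjectiveSpecialLinearGroup (Fin 2) L) :=
    Classical.PSL_isSimple le_rfl fun _ => by rw [hLcard, hDF]; omega
  haveI : Nontrivial X := e.toEquiv.nontrivial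
  haveI : IsSimpleGroup X := IsSimpleGroup.isSimpleGroup_of_surjective e.symm.toMonoidHom e.symm.surjective
  have hnc : Subgroup.normalClosure (U : Set G) = X := by
    have hle : Subgroup.normalClosure (U : Set G) ≤ X := by
      rw [Subgroup.normalClosure, Subgroup.closure_le]
      intro x hx
      obtain ⟨u, hu, hux⟩ := Group.mem_conjugatesOfSet_iff.1 hx
      obtain ⟨g, rfl⟩ := isConj_iff.1 hux
      obtain ⟨g', hg', hg'a⟩ : ∃ g' ∈ X, g' • a = g • a := by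
        rcases eq_or_ne (g • a) a with he | he
        · exact ⟨1, one_mem _, by rw [one_smul, he]⟩
        · obtain ⟨k, hk, ka, -⟩ := htwo (x := g • a) (y := a) he
          exact ⟨k, hk, ka⟩
      obtain ⟨v, hv, hev⟩ := K.map_eq hg'a.symm hu
      show g * u * g⁻¹ ∈ X
      rw [hev]
      exact mul_mem (mul_mem hg' (hUX hv)) (inv_mem hg')
    haveI : (Subgroup.normalClosure (U : Set G)).Normal := Subgroup.normalClosure_normal
    rcases (inferInstance : ((Subgroup.normalClosure (U : Set G)).subgroupOf X).Normal).eq_bot_or_eq_top with h | h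
    · exfalso
      have : (⟨u1, hUX hu1⟩ : X) ∈ (Subgroup.normalClosure (U : Set G)).subgroupOf X :=
        mem_subgroupOf.2 (Subgroup.subset_normalClosure hu1)
      rw [h, mem_bot] at this
      exact hu1ne (congrArg Subtype.val this)
    · exact le_antisymm hle (Subgroup.subgroupOf_eq_top.1 h)
  have hXn : X.Normal := hnc ▸ Subgroup.normalClosure_normal
  exact ⟨X.subgroupOf H, L, iL, iLf, hXn.subgroupOf H, by rw [hLcard, hDF]; exact hUcard,
    ⟨(Subgroup.subgroupOfEquivOfLe hXH).trans e⟩⟩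

end Kernel

end Cfsg.Agent.Invol.TripleNormal
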