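import Cfsg.Agent.Lib.Invol.ThreeFree.Main

/-!
# Minimal normal subgroups of order prime to three

A non-abelian minimal normal subgroup of order prime to 3 is a product of Suzuki groups, hence has a Sylow
2-subgroup `T` with `[T, T]` elementary of order `2 ^ m` and fewer than `5 ^ m` conjugates.
-/

set_option autoImplicit false
set_option linter.style.haveILetI false

namespace Cfsg.Agent.Invol.TripleNormal

open Subgroup
open scoped Pointwise commutatorElement

variable {G : Type*} [Group G] [Finite G]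

/-- A Sylow 2-subgroup with elementary derived group of order `2 ^ m` and at most `5 ^ m` conjugates. -/
def TwoBound (J : Subgroup G) : Prop :=
  ∃ T : Subgroup G, T ≤ J ∧ IsPGroup 2 T ∧ ¬ 2 ∣ T.relIndex J ∧ (∀ x ∈ ⁅T, T⁆, x * x = 1) ∧
    ∃ m : ℕ, Nat.card (⁅T, T⁆ : Subgroup G) = 2 ^ m ∧ (normalizer (T : Set G)).relIndex J ≤ 5 ^ m ∧
      (J ≠ ⊥ → (normalizer (T : Set G)).relIndex J < 5 ^ m)

theorem mem_norm {K : Subgroup G} {x : G} (h : ∀ k ∈ K, x * k * x⁻¹ ∈ K) : x ∈ normalizer (K : Set G) :=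
  Subgroup.mem_normalizer_fintype h

theorem mem_norm_of_commute {K : Subgroup G} {x : G} (h : ∀ k ∈ K, Commute x k) : x ∈ normalizer (K : Set G) :=
  mem_norm fun k hk => by rwa [(h k hk).eq, mul_inv_cancel_right]

omit [Finite G] in
theorem conj_mem_of_norm {K : Subgroup G} {x k : G} (h : x ∈ normalizer (K : Set G)) (hk : k ∈ K) :
    x * k * x⁻¹ ∈ K :=
  (mem_normalizer_iff.1 h k).1 hk

theorem mem_norm_sup {A B : Subgroup G} {x : G} (hA : x ∈ normalizer (A : Set G))
    (hB : x ∈ normalizer (B : Set G)) : x ∈ normalizer ((A ⊔ B : Subgroup G) : Set G) :=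
  mem_norm fun _ hk => (sup_le (fun _ h => mem_sup_left (conj_mem_of_norm hA h))
    (fun _ h => mem_sup_right (conj_mem_of_norm hB h)) :
      A ⊔ B ≤ (A ⊔ B).comap (MulAut.conj x).toMonoidHom) hk

theorem mem_norm_inf {A B : Subgroup G} {x : G} (hA : x ∈ normalizer (A : Set G))
    (hB : x ∈ normalizer (B : Set G)) : x ∈ normalizer ((A ⊓ B : Subgroup G) : Set G) :=
  mem_norm fun _ hk => mem_inf.2 ⟨conj_mem_of_norm hA hk.1, conj_mem_of_norm hB hk.2⟩

omit [Finite G] in
theorem card_mul_relIndex {H K : Subgroup G} (h : H ≤ K) : Nat.card H * H.relIndex K = Nat.card K := by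
  rw [← (H.subgroupOf K).card_mul_index, Nat.card_congr (Subgroup.subgroupOfEquivOfLe h).toEquiv]
  rfl

theorem card_sup_of_commute {A B : Subgroup G} (hc : ∀ a ∈ A, ∀ b ∈ B, Commute a b) (hd : A ⊓ B = ⊥) :
    Nat.card (A ⊔ B : Subgroup G) = Nat.card A * Nat.card B := by
  have hle : A ≤ normalizer (B : Set G) := fun a ha => mem_norm_of_commute (hc a ha)
  rw [← Nat.card_prod]
  refine (Nat.card_congr (Equiv.ofBijective (fun a : A × B =>
    (⟨(a.1 : G) * a.2, mul_mem_sup a.1.2 a.2.2⟩ : (A ⊔ B : Subgroup G))) ⟨?_, ?_⟩)).symm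
  · rintro ⟨x, z⟩ ⟨x', z'⟩ e
    have e' : (x : G) * z = x' * z' := congrArg Subtype.val e
    have h1 : (x' : G)⁻¹ * x ∈ A ⊓ B := mem_inf.2 ⟨mul_mem (inv_mem x'.2) x.2, by
      rw [show (x' : G)⁻¹ * x = (x' : G)⁻¹ * ((x : G) * z) * (z : G)⁻¹ by group, e', inv_mul_cancel_left]
      exact mul_mem (show (z' : G) ∈ B from z'.2) (inv_mem z.2)⟩
    rw [hd, mem_bot, inv_mul_eq_one] at h1
    obtain rfl : x = x' := Subtype.ext h1.symm
    obtain rfl : z = z' := Subtype.ext (mul_left_cancel e')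
    rfl
  · rintro ⟨a, ha⟩
    have ha' : a ∈ ((A : Set G) * (B : Set G)) := by
      rw [← coe_mul_of_left_le_normalizer_right A B hle]
      exact ha
    obtain ⟨x, hx, z, hz, rfl⟩ := Set.mem_mul.1 ha'
    exact ⟨(⟨x, hx⟩, ⟨z, hz⟩), rfl⟩

omit [Finite G] in
theorem twoBound_bot : TwoBound (⊥ : Subgroup G) := by
  refine ⟨⊥, le_rfl, IsPGroup.of_bot, by simp, ?_, 0, ?_, by simp, fun h => absurd rfl h⟩
  · intro x hx
    rw [Subgroup.commutator_bot_left, mem_bot] at hx
    rw [hx, one_mul]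
  · rw [Subgroup.commutator_bot_left, Subgroup.card_bot, pow_zero]

/-- The product of two commuting disjoint bounded subgroups is bounded. -/
theorem TwoBound.sup {A B : Subgroup G} (hA : TwoBound A) (hB : TwoBound B)
    (hc : ∀ a ∈ A, ∀ b ∈ B, Commute a b) (hd : A ⊓ B = ⊥) : TwoBound (A ⊔ B) := by
  obtain ⟨S, hSA, hS2, hSi, hSsq, k, hSc, hSn, hSn'⟩ := hA
  obtain ⟨T, hTB, hT2, hTi, hTsq, l, hTc, hTn, hTn'⟩ := hB
  have hcST : ∀ a ∈ S, ∀ b ∈ T, Commute a b := fun a ha b hb => hc a (hSA ha) b (hTB hb)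
  have hdST : S ⊓ T = ⊥ := le_bot_iff.1 (hd ▸ inf_le_inf hSA hTB)
  have hcard := card_sup_of_commute hcST hdST
  have hcardAB := card_sup_of_commute hc hd
  have hmem : ∀ {C D : Subgroup G}, (∀ a ∈ C, ∀ b ∈ D, Commute a b) → ∀ x ∈ C ⊔ D,
      ∃ c ∈ C, ∃ d ∈ D, c * d = x := by
    intro C D hCD x hx
    rw [sup_eq_closure] at hx
    induction hx using Subgroup.closure_induction with
    | mem x hx =>
      rcases hx with h | h
      · exact ⟨x, h, 1, one_mem _, mul_one x⟩
      · exact ⟨1, one_mem _, x, h, one_mul x⟩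
    | one => exact ⟨1, one_mem _, 1, one_mem _, one_mul 1⟩
    | mul x y _ _ hx hy =>
      obtain ⟨c, hc', d, hd', rfl⟩ := hx
      obtain ⟨c', hc'', d', hd'', rfl⟩ := hy
      exact ⟨c * c', mul_mem hc' hc'', d * d', mul_mem hd' hd'', ((hCD c' hc'' d hd').symm.mul_mul_mul_comm c d').symm⟩
    | inv x _ hx =>
      obtain ⟨c, hc', d, hd', rfl⟩ := hx
      exact ⟨c⁻¹, inv_mem hc', d⁻¹, inv_mem hd', by rw [mul_inv_rev, ((hCD c hc' d hd').inv_inv).eq]⟩
  refine ⟨S ⊔ T, sup_le_sup hSA hTB, ?_, ?_, ?_, k + l, ?_, ?_, ?_⟩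
  · haveI := Fact.mk Nat.prime_two
    obtain ⟨i, hi⟩ := hS2.exists_card_eq
    obtain ⟨j, hj⟩ := hT2.exists_card_eq
    exact IsPGroup.of_card (n := i + j) (by rw [hcard, hi, hj, pow_add])
  · intro h
    have e : (S ⊔ T).relIndex (A ⊔ B) = S.relIndex A * T.relIndex B := by
      have e1 := card_mul_relIndex (sup_le_sup hSA hTB)
      rw [hcard, hcardAB, ← card_mul_relIndex hSA, ← card_mul_relIndex hTB] at e1
      refine Nat.eq_of_mul_eq_mul_left (show 0 < Nat.card S * Nat.card T from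
        Nat.mul_pos Nat.card_pos Nat.card_pos) (e1.trans ?_)
      ring
    rw [e] at h
    exact (Nat.prime_two.dvd_mul.1 h).elim hSi hTi
  all_goals
    have hcomm : ⁅S ⊔ T, S ⊔ T⁆ = ⁅S, S⁆ ⊔ ⁅T, T⁆ := by
      refine le_antisymm (Subgroup.commutator_le.2 fun x hx y hy => ?_)
        (sup_le (Subgroup.commutator_mono le_sup_left le_sup_left)
          (Subgroup.commutator_mono le_sup_right le_sup_right))
      obtain ⟨a, ha, b, hb, rfl⟩ := hmem hcST x hx
      obtain ⟨a', ha', b', hb', rfl⟩ := hmem hcST y hy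
      have e : ⁅a * b, a' * b'⁆ = ⁅a, a'⁆ * ⁅b, b'⁆ := by
        have h1 := (hcST a' ha' b hb).eq
        have h2 : Commute (a * a' * a⁻¹ * a'⁻¹) b' := hcST _ (mul_mem (mul_mem (mul_mem ha ha') (inv_mem ha))
          (inv_mem ha')) b' hb'
        simp only [commutatorElement_def]
        calc a * b * (a' * b') * (a * b)⁻¹ * (a' * b')⁻¹
            = a * (b * a') * b' * b⁻¹ * (a⁻¹ * b'⁻¹) * a'⁻¹ := by group
          _ = a * a' * (b * b' * b⁻¹) * a⁻¹ * b'⁻¹ * a'⁻¹ := by
              rw [← h1]; group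
          _ = a * a' * (a⁻¹ * (b * b' * b⁻¹)) * (a'⁻¹ * b'⁻¹) := by
              rw [(hcST a⁻¹ (inv_mem ha) (b * b' * b⁻¹) (mul_mem (mul_mem hb hb') (inv_mem hb))).eq,
                (hcST a'⁻¹ (inv_mem ha') b'⁻¹ (inv_mem hb')).eq]
              group
          _ = a * a' * a⁻¹ * ((b * b' * b⁻¹) * a'⁻¹) * b'⁻¹ := by group
          _ = a * a' * a⁻¹ * a'⁻¹ * (b * b' * b⁻¹ * b'⁻¹) := by
              rw [(hcST a'⁻¹ (inv_mem ha') (b * b' * b⁻¹) (mul_mem (mul_mem hb hb') (inv_mem hb))).symm.eq]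
              group
      rw [e]
      exact mul_mem_sup (Subgroup.commutator_mem_commutator ha ha') (Subgroup.commutator_mem_commutator hb hb')
    have hS' : ⁅S, S⁆ ≤ S := Subgroup.commutator_le_self S
    have hT' : ⁅T, T⁆ ≤ T := Subgroup.commutator_le_self T
  · intro x hx
    rw [hcomm] at hx
    obtain ⟨a, ha, b, hb, rfl⟩ := hmem (fun a ha b hb => hcST a (hS' ha) b (hT' hb)) x hx
    rw [(hcST a (hS' ha) b (hT' hb)).symm.mul_mul_mul_comm, hSsq a ha, hTsq b hb, one_mul]
  · rw [hcomm, card_sup_of_commute (fun a ha b hb => hcST a (hS' ha) b (hT' hb))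
      (le_bot_iff.1 (hdST ▸ inf_le_inf hS' hT')), hSc, hTc, pow_add]
  all_goals
    have hN : (normalizer ((S ⊔ T : Subgroup G) : Set G)).relIndex (A ⊔ B) ≤
        (normalizer (S : Set G)).relIndex A * (normalizer (T : Set G)).relIndex B := by
      set NA := A ⊓ normalizer (S : Set G) with hNA
      set NB := B ⊓ normalizer (T : Set G) with hNB
      have hle : NA ⊔ NB ≤ normalizer ((S ⊔ T : Subgroup G) : Set G) := sup_le
        (fun g hg => mem_norm_sup hg.2 (mem_norm_of_commute fun t ht => hc g hg.1 t (hTB ht)))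
        (fun g hg => mem_norm_sup (mem_norm_of_commute fun t ht => (hc t (hSA ht) g hg.1).symm) hg.2)
      calc (normalizer ((S ⊔ T : Subgroup G) : Set G)).relIndex (A ⊔ B)
          ≤ (NA ⊔ NB).relIndex (A ⊔ B) := Nat.le_of_dvd (Nat.pos_of_ne_zero index_ne_zero_of_finite)
              (Subgroup.relIndex_dvd_of_le_left _ hle)
        _ = _ := by
          have hcN : ∀ a ∈ NA, ∀ b ∈ NB, Commute a b := fun a ha b hb => hc a ha.1 b hb.1
          have hdN : NA ⊓ NB = ⊥ := le_bot_iff.1 (hd ▸ inf_le_inf inf_le_left inf_le_left)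
          have e1 := card_mul_relIndex (sup_le_sup (inf_le_left : NA ≤ A) (inf_le_left : NB ≤ B))
          rw [card_sup_of_commute hcN hdN, hcardAB, ← card_mul_relIndex (inf_le_left : NA ≤ A),
            ← card_mul_relIndex (inf_le_left : NB ≤ B), Subgroup.inf_relIndex_left,
            Subgroup.inf_relIndex_left] at e1
          refine Nat.eq_of_mul_eq_mul_left (show 0 < Nat.card NA * Nat.card NB from
            Nat.mul_pos Nat.card_pos Nat.card_pos) (e1.trans ?_)
          ring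
  · rw [pow_add]
    exact hN.trans (Nat.mul_le_mul hSn hTn)
  · intro hne
    rw [pow_add]
    refine lt_of_le_of_lt hN ?_
    rcases eq_or_ne A ⊥ with hA0 | hA0
    · have hB0 : B ≠ ⊥ := fun e => hne (by rw [hA0, e, sup_bot_eq])
      exact Nat.mul_lt_mul_of_le_of_lt hSn (hTn' hB0) (pow_pos (by norm_num) k)
    · exact Nat.mul_lt_mul_of_lt_of_le (hSn' hA0) hTn (pow_pos (by norm_num) l)

/-- A Suzuki group is bounded. -/
theorem twoBound_of_suzuki {L : Subgroup G} (hL : Cfsg.Lie.IsoSuzuki L) : TwoBound L := by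
  haveI := Fact.mk Nat.prime_two
  obtain ⟨S⟩ : Nonempty (Sylow 2 L) := inferInstance
  obtain ⟨F, i1, i2, m, hS, e, he⟩ := Invol.ThreeFree.exists_frame hL S
  have hmap : (S : Subgroup L) = (Cfsg.Agent.Suz.unip hS).map e.toMonoidHom := by
    ext y
    obtain ⟨y, rfl⟩ := e.surjective y
    rw [he]
    exact (Subgroup.mem_map_iff_mem (f := e.toMonoidHom) e.injective).symm
  have hsq : ∀ x : L, x ∈ ⁅(S : Subgroup L), (S : Subgroup L)⁆ → x * x = 1 := fun x hx =>
    ((Invol.ThreeFree.sz_commutator hL S x).1 hx).2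
  refine ⟨(S : Subgroup L).map L.subtype, Subgroup.map_subtype_le _, S.isPGroup'.map _, ?_, ?_,
    2 * m + 1, ?_, ?_⟩
  · rw [← Subgroup.relIndex_subgroupOf le_rfl, Subgroup.subgroupOf_self, Subgroup.relIndex_top_right,
      Subgroup.subgroupOf, Subgroup.comap_map_eq_self_of_injective L.subtype_injective]
    exact S.not_dvd_index
  · intro x hx
    rw [← Subgroup.map_commutator] at hx
    obtain ⟨y, hy, rfl⟩ := hx
    rw [← map_mul, hsq y hy, map_one]
  · rw [← Subgroup.map_commutator, Nat.card_congr (Subgroup.equivMapOfInjective _ _ L.subtype_injective).symm.toEquiv,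
      hmap, ← Subgroup.map_commutator, Nat.card_congr (Subgroup.equivMapOfInjective _ _ e.injective).symm.toEquiv,
      ← hS.card, ← Invol.ThreeFree.ncard_omega hS, ← Nat.card_coe_set_eq]
    exact Nat.card_congr (Equiv.subtypeEquivRight fun x => Invol.ThreeFree.commutator_unip hS x)
  have hN : (normalizer (((S : Subgroup L).map L.subtype : Subgroup G) : Set G)).relIndex L ≤
      (2 ^ (2 * m + 1)) ^ 2 + 1 := by
    refine le_trans (Nat.le_of_dvd (Nat.pos_of_ne_zero index_ne_zero_of_finite)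
      (Subgroup.index_dvd_of_le (H := (Cfsg.Agent.Suz.borel m F).map e.toMonoidHom) ?_)) (le_of_eq ?_)
    · rintro _ ⟨g, hg, rfl⟩
      rw [Subgroup.mem_subgroupOf, mem_normalizer_iff]
      have hg' := mem_normalizer_iff.1 (Cfsg.Agent.Suz.borel_le_normalizer hS hg)
      intro x
      constructor
      · rintro ⟨y, hy, rfl⟩
        obtain ⟨y, rfl⟩ := e.surjective y
        exact ⟨e (g * y * g⁻¹), (he _).2 ((hg' y).1 ((he _).1 hy)), by simp⟩
      · rintro ⟨y, hy, hyx⟩
        obtain ⟨y, rfl⟩ := e.surjective y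
        refine ⟨e (g⁻¹ * y * g), (he _).2 ((hg' _).2 (by simpa [mul_assoc] using (he _).1 hy)), ?_⟩
        rw [show x = (L.subtype (e g))⁻¹ * (L.subtype (e g) * x * (L.subtype (e g))⁻¹) * L.subtype (e g) by group]
        simp only [map_mul, map_inv]
        rw [hyx]
        rfl
    · rw [Subgroup.index_map_of_bijective e.bijective, Cfsg.Agent.Suz.index_borel hS]
  have hlt : (2 ^ (2 * m + 1)) ^ 2 + 1 < 5 ^ (2 * m + 1) := by
    have key : ∀ n : ℕ, (2 ^ (n + 2)) ^ 2 + 1 < 5 ^ (n + 2) := by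
      intro n
      induction n with
      | zero => norm_num
      | succ n ih =>
        rw [pow_succ 2, pow_succ 5, mul_pow]
        omega
    obtain ⟨n, hn⟩ : ∃ n, 2 * m + 1 = n + 2 := ⟨2 * m - 1, by have := hS.one_le; omega⟩
    rw [hn]; exact key n
  exact ⟨hN.trans hlt.le, fun _ => hN.trans_lt hlt⟩

/-- A non-abelian minimal normal subgroup of order prime to three is bounded. -/
theorem twoBound_of_minimal (M : Subgroup G) [hMn : M.Normal]
    (hmin : ∀ K : Subgroup G, K.Normal → K ≤ M → K = ⊥ ∨ K = M)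
    (hna : ¬ ∀ x ∈ M, ∀ y ∈ M, Commute x y) (h3 : ¬ 3 ∣ Nat.card M) : TwoBound M := by
  classical
  have hM : M ≠ ⊥ := fun e => hna fun x hx y _ => by
    rw [e, mem_bot] at hx
    rw [hx]
    exact Commute.one_left y
  let Nrm : Set (Subgroup G) := {K | K ≤ M ∧ K ≠ ⊥ ∧ M ≤ normalizer (K : Set G)}
  obtain ⟨L0, -, hL0⟩ := (Set.toFinite Nrm).exists_le_minimal (a := M) ⟨le_rfl, hM, le_normalizer⟩
  let Lset : Set (Subgroup G) := {L | ∃ g : G, L = L0.map (MulAut.conj g).toMonoidHom}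
  have hmem : ∀ L ∈ Lset, L ∈ Nrm ∧ ∀ K ∈ Nrm, K ≤ L → K = L := by
    rintro L ⟨g, rfl⟩
    have key : ∀ (g : G) (K : Subgroup G), K ∈ Nrm → K.map (MulAut.conj g).toMonoidHom ∈ Nrm := by
      rintro g K ⟨hK1, hK2, hK3⟩
      refine ⟨?_, ?_, fun x hx => mem_normalizer_iff.2 fun y => ?_⟩
      · rintro _ ⟨y, hy, rfl⟩
        exact hMn.conj_mem y (hK1 hy) g
      · rw [Ne, Subgroup.map_eq_bot_iff_of_injective _ (MulEquiv.injective _)]
        exact hK2
      · revert y
        show ∀ y, y ∈ K.map (MulAut.conj g).toMonoidHom ↔ x * y * x⁻¹ ∈ K.map (MulAut.conj g).toMonoidHom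
        refine mem_normalizer_iff.1 (mem_norm ?_)
        rintro _ ⟨k, hk, rfl⟩
        have hx' : g⁻¹ * x * g ∈ M := by simpa using hMn.conj_mem x hx g⁻¹
        exact ⟨g⁻¹ * x * g * k * (g⁻¹ * x * g)⁻¹, conj_mem_of_norm (hK3 hx') hk, by simp [mul_assoc]⟩
    refine ⟨key g L0 hL0.1, fun K hK hKL => le_antisymm hKL ?_⟩
    have h1 := key g⁻¹ K hK
    have h2 : K.map (MulAut.conj g⁻¹).toMonoidHom ≤ L0 := by
      rintro _ ⟨k, hk, rfl⟩
      obtain ⟨l, hl, rfl⟩ := hKL hk
      simpa [mul_assoc] using hl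
    rintro _ ⟨l, hl, rfl⟩
    obtain ⟨k, hk, hkl⟩ := hL0.2 h1 h2 hl
    have hkl' : g⁻¹ * k * g⁻¹⁻¹ = l := hkl
    show g * l * g⁻¹ ∈ K
    rw [← hkl']
    simpa [mul_assoc] using hk
  have hcomm : ∀ L ∈ Lset, ∀ L' ∈ Lset, L ≠ L' → ∀ a ∈ L, ∀ b ∈ L', Commute a b := by
    intro L hL L' hL' hne a ha b hb
    have hbot : L ⊓ L' = ⊥ := by
      by_contra hne'
      have hN : L ⊓ L' ∈ Nrm := ⟨inf_le_left.trans (hmem L hL).1.1, hne',
        fun x hx => mem_norm_inf ((hmem L hL).1.2.2 hx) ((hmem L' hL').1.2.2 hx)⟩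
      exact hne (((hmem L hL).2 _ hN inf_le_left).symm.trans ((hmem L' hL').2 _ hN inf_le_right))
    have h1 : ⁅a, b⁆ ∈ L ⊓ L' := by
      rw [commutatorElement_def]
      refine mem_inf.2 ⟨?_, ?_⟩
      · rw [mul_assoc, mul_assoc, ← mul_assoc b]
        exact mul_mem ha ((mem_normalizer_iff.1 ((hmem L hL).1.2.2 ((hmem L' hL').1.1 hb)) _).1 (inv_mem ha))
      · exact mul_mem ((mem_normalizer_iff.1 ((hmem L' hL').1.2.2 ((hmem L hL).1.1 ha)) b).1 hb) (inv_mem hb)
    rw [hbot, mem_bot, commutatorElement_eq_one_iff_mul_comm] at h1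
    exact h1
  have hsup : sSup Lset = M := by
    refine (hmin _ ⟨fun x hx g => ?_⟩ (sSup_le fun L hL => (hmem L hL).1.1)).resolve_left fun e => ?_
    · have hle : (sSup Lset).map (MulAut.conj g).toMonoidHom ≤ sSup Lset := by
        rw [Subgroup.map_le_iff_le_comap]
        refine sSup_le ?_
        rintro L ⟨g', rfl⟩ y ⟨l, hl, rfl⟩
        refine Subgroup.mem_comap.2 (le_sSup (s := Lset) (a := L0.map (MulAut.conj (g * g')).toMonoidHom) ⟨g * g', rfl⟩ ?_)
        exact ⟨l, hl, by simp [mul_assoc]⟩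
      exact hle ⟨x, hx, rfl⟩
    · have := le_sSup (a := L0.map (MulAut.conj (1 : G)).toMonoidHom) (s := Lset) ⟨1, rfl⟩
      rw [e, le_bot_iff, Subgroup.map_eq_bot_iff_of_injective _ (MulEquiv.injective _)] at this
      exact hL0.1.2.1 this
  have hsimple : ∀ L ∈ Lset, Cfsg.Lie.IsoSuzuki L := by
    intro L hL
    haveI : Nontrivial L := L.nontrivial_iff_ne_bot.2 (hmem L hL).1.2.1
    have hs : IsSimpleGroup L := ⟨fun K hK => by
      by_contra hc
      push Not at hc
      have hKL : K.map L.subtype ≤ L := Subgroup.map_subtype_le K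
      have hKn : K.map L.subtype ∈ Nrm := by
        refine ⟨hKL.trans (hmem L hL).1.1, fun e => hc.1
          ((Subgroup.map_eq_bot_iff_of_injective _ L.subtype_injective).1 e), ?_⟩
        rw [← hsup]
        refine sSup_le fun L' hL' x hx => ?_
        rcases eq_or_ne L' L with rfl | hne
        · refine mem_norm ?_
          rintro _ ⟨k, hk, rfl⟩
          exact ⟨(⟨x, hx⟩ : L') * k * (⟨x, hx⟩ : L')⁻¹, hK.conj_mem k hk _, rfl⟩
        · exact mem_norm_of_commute fun y hy => hcomm L' hL' L hL hne x hx y (hKL hy)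
      refine hc.2 (eq_top_iff.2 fun l _ => ?_)
      obtain ⟨k, hk, hkl⟩ := ((hmem L hL).2 _ hKn hKL).ge l.2
      exact Subtype.ext hkl ▸ hk⟩
    refine Invol.ThreeFree.isoSuzuki (fun hab => hna ?_) fun h =>
      h3 (h.trans (Subgroup.card_dvd_of_le (hmem L hL).1.1))
    have hLab : ∀ L' ∈ Lset, ∀ a ∈ L', ∀ b ∈ L', Commute a b := by
      rintro L' ⟨g', rfl⟩ _ ⟨a, ha, rfl⟩ _ ⟨b, hb, rfl⟩
      obtain ⟨g, rfl⟩ := hL
      refine Commute.map ?_ _
      have h := congrArg Subtype.val (hab.is_comm.comm (⟨g * a * g⁻¹, ⟨a, ha, rfl⟩⟩ : L0.map (MulAut.conj g).toMonoidHom)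
        ⟨g * b * g⁻¹, ⟨b, hb, rfl⟩⟩)
      show a * b = b * a
      have h' : g * a * g⁻¹ * (g * b * g⁻¹) = g * b * g⁻¹ * (g * a * g⁻¹) := h
      exact mul_left_cancel (a := g) (mul_right_cancel (b := g⁻¹) (by simpa [mul_assoc] using h'))
    intro x hx y hy
    rw [← hsup] at hx hy
    have hle : sSup Lset ≤ centralizer ((sSup Lset : Subgroup G) : Set G) := by
      refine sSup_le fun L' hL' a ha => ?_
      have hle' : sSup Lset ≤ centralizer ({a} : Set G) := sSup_le fun L'' hL'' b hb => by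
        rw [mem_centralizer_singleton_iff]
        rcases eq_or_ne L'' L' with rfl | hne
        · exact (hLab _ hL' b hb a ha).eq
        · exact (hcomm L'' hL'' L' hL' hne b hb a ha).eq
      exact fun b hb => mem_centralizer_singleton_iff.1 (hle' hb)
    exact (hle hy x hx)
  have key : ∀ S : Finset (Subgroup G), (∀ L ∈ S, L ∈ Lset) → TwoBound (S.sup id) := by
    intro S
    induction S using Finset.induction with
    | empty => exact fun _ => by rw [Finset.sup_empty]; exact twoBound_bot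
    | @insert L S hLS ih =>
      intro hS
      have hrec := ih fun K hK => hS K (Finset.mem_insert_of_mem hK)
      have hL := hS L (Finset.mem_insert_self L S)
      rw [Finset.sup_insert, id_eq]
      have hle : S.sup id ≤ centralizer (L : Set G) := Finset.sup_le fun K hK a ha b hb =>
        ((hcomm L hL K (hS K (Finset.mem_insert_of_mem hK)) (fun e => hLS (e ▸ hK)) b hb a ha).eq)
      refine (twoBound_of_suzuki (hsimple L hL)).sup hrec (fun a ha b hb => (hle hb a ha)) ?_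
      haveI := (hsimple L hL)
      by_contra hne
      have hLa : L ⊓ S.sup id ∈ Nrm := ⟨inf_le_left.trans (hmem L hL).1.1, hne, fun x hx =>
        mem_norm_inf ((hmem L hL).1.2.2 hx) (mem_norm fun k hk =>
          (Finset.sup_le fun K hK a ha => Finset.le_sup (f := id) hK
            (conj_mem_of_norm ((hmem K (hS K (Finset.mem_insert_of_mem hK))).1.2.2 hx) ha) :
            S.sup id ≤ (S.sup id).comap (MulAut.conj x).toMonoidHom) hk)⟩
      have hLle : L ≤ S.sup id := ((hmem L hL).2 _ hLa inf_le_left).ge.trans inf_le_right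
      obtain ⟨S'⟩ : Nonempty (Sylow 2 L) := inferInstance
      obtain ⟨z, hz, hz2, hz1⟩ := Invol.ThreeFree.sz_exists_omega (hsimple L hL) S'
      have hbot : ⁅(S' : Subgroup L), (S' : Subgroup L)⁆ = ⊥ := eq_bot_iff.2 (Subgroup.commutator_le.2
        fun b _ c _ => mem_bot.2 (commutatorElement_eq_one_iff_mul_comm.2
          (Subtype.ext ((hle (hLle c.2) b b.2) : (b : G) * c = c * b))))
      have := ((Invol.ThreeFree.sz_commutator (hsimple L hL) S' z).2 ⟨hz, hz2⟩)
      rw [hbot, mem_bot] at this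
      exact hz1 this
  have := key (Set.toFinite Lset).toFinset fun L hL => by simpa using hL
  rwa [Finset.sup_id_eq_sSup, Set.Finite.coe_toFinset, hsup] at this

end Cfsg.Agent.Invol.TripleNormal
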