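import Cfsg.Agent.Lib.Invol.TripleNormal.Extra
import Cfsg.Agent.Lib.Invol.TripleNormal.SzProd
import Cfsg.Agent.Lib.Grp.Cores
import Cfsg.Agent.Lib.Grp.Frattini
import Cfsg.Agent.Lib.Fus.CaminaPairBasic
import Cfsg.Agent.Lib.Grp.Solvable
import Cfsg.Agent.S3762
import Cfsg.Agent.S0205

/-!
# Normal subgroups of odd-dimensional transitive linear groups

`G` is faithful and transitive on `U∖1`, `|U| = p ^ i` with `i` odd and `p ≡ 2 (mod 3)` odd.  If `D` is normal
and of odd order or of order prime to 3, its Fitting subgroup is cyclic, semiregular and self-centralizing in `D`.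
-/

set_option autoImplicit false
set_option linter.style.haveILetI false

namespace Cfsg.Agent.Invol.TripleNormal

open MulAction Subgroup
open scoped commutatorElement Pointwise

variable {G : Type*} [Group G] [Finite G] {U : Type*} [CommGroup U] [Finite U] [MulDistribMulAction G U]

/-- The hypotheses on the linear group. -/
structure LinHyp (G : Type*) [Group G] (U : Type*) [CommGroup U] [MulDistribMulAction G U] (p i : ℕ) : Prop where
  hp : p.Prime
  p2 : p ≠ 2
  p3 : p % 3 = 2
  odd : Odd i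
  card : Nat.card U = p ^ i
  ex : ∀ u : U, u ^ p = 1
  trans : TransNe G U
  faithful : FaithfulSMul G U

omit [Finite G] in
theorem mul_pow_of_class_two {x y c : G} (hyx : y * x = c * (x * y)) (hcx : Commute c x) (hcy : Commute c y) :
    ∀ n : ℕ, (x * y) ^ n = c ^ (n.choose 2) * (x ^ n * y ^ n) := by
  have hyn : ∀ n : ℕ, y ^ n * x = c ^ n * (x * y ^ n) := by
    intro n
    induction n with
    | zero => simp
    | succ n ih =>
      calc y ^ (n + 1) * x = y ^ n * (y * x) := by rw [pow_succ, mul_assoc]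
        _ = y ^ n * c * (x * y) := by rw [hyx, mul_assoc]
        _ = c * (y ^ n * x) * y := by rw [(hcy.pow_right n).symm.eq]; simp only [mul_assoc]
        _ = _ := by rw [ih, pow_succ' c, pow_succ y]; simp only [mul_assoc]
  intro n
  induction n with
  | zero => simp
  | succ n ih =>
    calc (x * y) ^ (n + 1) = c ^ n.choose 2 * (x ^ n * (y ^ n * x) * y) := by
          rw [pow_succ, ih]; simp only [mul_assoc]
      _ = c ^ n.choose 2 * (x ^ n * c ^ n * (x * y ^ n) * y) := by rw [hyn]; simp only [mul_assoc]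
      _ = c ^ n.choose 2 * c ^ n * (x ^ n * x * (y ^ n * y)) := by
          rw [← ((hcx.pow_pow n n)).eq]; simp only [mul_assoc]
      _ = _ := by
          rw [← pow_add, ← pow_succ, ← pow_succ, Nat.choose_succ_succ' n 1, Nat.choose_one_right,
            Nat.add_comm (n.choose 2) n]

namespace LinHyp

variable {p i : ℕ} (h : LinHyp G U p i)
include h

omit [Finite G] in
theorem nontrivial : Nontrivial U := by
  refine Finite.one_lt_card_iff_nontrivial.1 ?_
  rw [h.card]
  exact Nat.one_lt_pow h.odd.pos.ne' h.hp.one_lt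

/-- A normal abelian subgroup is semiregular and cyclic. -/
theorem abelian_normal {A : Subgroup G} [A.Normal] (hab : ∀ x ∈ A, ∀ y ∈ A, Commute x y) :
    IsCyclic A ∧ ∀ a ∈ A, a ≠ 1 → ∀ u : U, a • u = u → u = 1 := by
  haveI := h.faithful
  haveI := h.nontrivial
  have hreg : ∀ a ∈ A, a ≠ 1 → ∀ u : U, a • u = u → u = 1 := fun a ha ha1 u hu => by
    by_contra hu1
    exact ha1 (semiregular_of_comm h.trans hab ha hu1 hu)
  refine ⟨?_, hreg⟩
  letI : CommGroup A :=
    { (inferInstance : Group A) with mul_comm := fun a b => Subtype.ext (hab _ a.2 _ b.2).eq }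
  haveI : IsZGroup A := ⟨fun q hq P => by
    haveI := Fact.mk hq
    letI : CommGroup (P : Subgroup A) :=
      { (inferInstance : Group (P : Subgroup A)) with
        mul_comm := fun a b => Subtype.ext (Subtype.ext (hab _ (a : A).2 _ (b : A).2).eq) }
    refine Cfsg.Agent.Fus.isCyclic_of_unique_order_prime P.isPGroup' fun a b ha hb ha1 => ?_
    have ha' : ((a : A) : G) ^ q = 1 := by
      rw [← SubmonoidClass.coe_pow, ← SubmonoidClass.coe_pow, ha]; rfl
    have hb' : ((b : A) : G) ^ q = 1 := by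
      rw [← SubmonoidClass.coe_pow, ← SubmonoidClass.coe_pow, hb]; rfl
    have ha1' : ((a : A) : G) ≠ 1 := fun e => ha1 (Subtype.ext (Subtype.ext e))
    have hqp : q ≠ p := by
      rintro rfl
      have hfix : ∀ u : U, u = 1 := by
        by_contra hc
        push Not at hc
        have hA : IsPGroup q (Subgroup.zpowers ((a : A) : G)) :=
          IsPGroup.of_card (n := 1) (by rw [Nat.card_zpowers, pow_one, orderOf_eq_prime ha' ha1'])
        have hdvd : q ∣ Nat.card U := by rw [h.card]; exact dvd_pow_self q h.odd.pos.ne'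
        obtain ⟨u, hu, hu1⟩ := hA.exists_fixed_point_of_prime_dvd_card_of_fixed_point U hdvd
          (a := (1 : U)) (MulAction.mem_fixedPoints.2 fun g => smul_one (g : G))
        exact hu1 (hreg _ (a : A).2 ha1' u (MulAction.mem_fixedPoints.1 hu
          ⟨_, Subgroup.mem_zpowers _⟩)).symm
      obtain ⟨u, hu⟩ := exists_ne (1 : U)
      exact hu (hfix u)
    obtain ⟨k, hk⟩ := Subgroup.mem_zpowers_iff.1
      (mem_zpowers_of_semiregular h.hp h.ex hq hqp hab hreg (b : A).2 (a : A).2 hb' ha' ha1')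
    exact Subgroup.mem_zpowers_iff.2 ⟨k, Subtype.ext (Subtype.ext (by simpa using hk))⟩⟩
  infer_instance

omit [Finite G] [Finite U] in
theorem lines {q : ℕ} (hq : q.Prime) (hqp : q ∣ p + 1) :
    ∀ L : ℕ, L * (p - 1) + 1 = Nat.card U → ¬ q ∣ L := by
  intro L hL hd
  have hp1 : p - 1 + 1 = p := Nat.sub_add_cancel h.hp.one_le
  obtain ⟨j, hj⟩ := h.odd
  have hsum : L = ∑ k ∈ Finset.range i, p ^ k := by
    refine Nat.eq_of_mul_eq_mul_right (Nat.sub_pos_of_lt h.hp.one_lt) (Nat.add_right_cancel (m := 1) ?_)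
    rw [hL, h.card]
    conv_lhs => rw [← hp1]
    rw [← geom_sum_mul_add, hp1]
  have key : ∀ n : ℕ, ((∑ k ∈ Finset.range (2 * n + 1), p ^ k : ℕ) : ZMod q) = 1 := by
    intro n
    induction n with
    | zero => simp
    | succ n ih =>
      have hp' : (p : ZMod q) + 1 = 0 := by
        rw [← Nat.cast_one, ← Nat.cast_add, ZMod.natCast_eq_zero_iff]; exact hqp
      rw [show 2 * (n + 1) + 1 = 2 * n + 1 + 1 + 1 by ring, Finset.sum_range_succ, Finset.sum_range_succ]
      push_cast at ih ⊢
      rw [ih]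
      linear_combination ((p : ZMod q) ^ (2 * n + 1)) * hp'
  haveI := Fact.mk hq
  have h1 := key j
  rw [← hj, ← hsum, (ZMod.natCast_eq_zero_iff L q).2 hd] at h1
  exact zero_ne_one h1

/-- A normal `q`-subgroup is commutative. -/
theorem qgroup_comm {q : ℕ} [hq : Fact q.Prime] {Q : Subgroup G} [hQn : Q.Normal] (hQ : IsPGroup q Q) :
    ∀ x ∈ Q, ∀ y ∈ Q, Commute x y := by
  haveI := h.faithful
  haveI := h.nontrivial
  have hcomm_of : ⁅Q, Q⁆ = ⊥ → ∀ x ∈ Q, ∀ y ∈ Q, Commute x y := fun hb x hx y hy =>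
    commutatorElement_eq_one_iff_mul_comm.1 (mem_bot.1 (hb ▸ Subgroup.commutator_mem_commutator hx hy))
  rcases eq_or_ne q p with rfl | hqp
  · have hdvd : q ∣ Nat.card U := by rw [h.card]; exact dvd_pow_self q h.odd.pos.ne'
    obtain ⟨u, hu, hu1⟩ := hQ.exists_fixed_point_of_prime_dvd_card_of_fixed_point U hdvd
      (a := (1 : U)) (MulAction.mem_fixedPoints.2 fun g => smul_one (g : G))
    have hQb : Q = ⊥ := eq_bot_of_fixed h.trans (Ne.symm hu1) fun g hg =>
      MulAction.mem_fixedPoints.1 hu ⟨g, hg⟩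
    intro x hx y _
    rw [hQb, mem_bot] at hx
    rw [hx]; exact Commute.one_left y
  by_cases hq5 : q < 5
  · have hq23 : q = 2 ∨ q = 3 := by
      have := hq.out.two_le
      interval_cases q
      · exact Or.inl rfl
      · exact Or.inr rfl
      · exact absurd hq.out (by decide)
    have hdvd : q ∣ p + 1 := by
      rcases hq23 with rfl | rfl
      · have := Nat.odd_iff.1 (h.hp.odd_of_ne_two h.p2); omega
      · have := h.p3; omega
    obtain ⟨v, hv, hfix⟩ := exists_fixed_of_lines h.hp h.ex (h.lines hq.out hdvd) Q hQ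
    exact hcomm_of (eq_bot_of_fixed h.trans hv hfix)
  push Not at hq5
  by_contra hna
  have hq2 : q ≠ 2 := by omega
  -- characteristic abelian subgroups are cyclic
  have hsymp : ∀ A : Subgroup Q, A.Characteristic → IsMulCommutative A → IsCyclic A := by
    intro A hA hAc
    haveI := hA
    have hab : ∀ x ∈ A.map Q.subtype, ∀ y ∈ A.map Q.subtype, Commute x y := by
      rintro _ ⟨x, hx, rfl⟩ _ ⟨y, hy, rfl⟩
      exact congrArg (fun z : A => ((z : Q) : G)) (hAc.is_comm.comm (⟨x, hx⟩ : A) ⟨y, hy⟩)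
    haveI := (h.abelian_normal hab).1
    exact isCyclic_of_surjective (Subgroup.equivMapOfInjective A _ Q.subtype_injective).symm.toMonoidHom
      (MulEquiv.surjective _)
  obtain ⟨E, R, hER, hsup, hE, hR⟩ := S3762.result hQ hsymp
  have hR' : IsCyclic R := hR.resolve_right fun e => hq2 e.1
  have hRc : ∀ a ∈ R, ∀ b ∈ R, a * b = b * a := fun a ha b hb => by
    obtain ⟨g, hg⟩ := hR'.exists_generator
    obtain ⟨m, hm⟩ := Subgroup.mem_zpowers_iff.1 (hg ⟨a, ha⟩)
    obtain ⟨n, hn⟩ := Subgroup.mem_zpowers_iff.1 (hg ⟨b, hb⟩)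
    have := (Commute.zpow_zpow (Commute.refl g) m n).eq
    rw [hm, hn] at this
    exact congrArg Subtype.val this
  rcases hE with hE | hE
  · apply hna
    intro x hx y hy
    have hmem : ∀ z : Q, z ∈ R := fun z => by
      rw [hE, bot_sup_eq] at hsup
      exact hsup.ge (mem_top z)
    exact congrArg Subtype.val (hRc ⟨x, hx⟩ (hmem _) ⟨y, hy⟩ (hmem _))
  obtain ⟨⟨hEp, hEf, hEc⟩, hEz⟩ := hE
  have hRn : ∀ r ∈ R, ∀ z : Q, r * z = z * r := fun r hr z => by
    have hz : z ∈ centralizer ({r} : Set Q) := by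
      refine (sup_le ?_ ?_ : E ⊔ R ≤ _) (hsup.ge (mem_top z))
      · exact fun e he => mem_centralizer_singleton_iff.2 (hER e he r hr)
      · exact fun e he => mem_centralizer_singleton_iff.2 (hRc e he r hr)
    exact (mem_centralizer_singleton_iff.1 hz).symm
  haveI : E.Normal := ⟨fun e he g => by
    have hg : g ∈ normalizer (E : Set Q) := by
      refine (sup_le le_normalizer (fun r hr => ?_) : E ⊔ R ≤ _) (hsup.ge (mem_top g))
      exact mem_norm_of_commute fun k _ => hRn r hr k
    exact conj_mem_of_norm hg he⟩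
  have hclass : ∀ x y : Q, ∀ z : Q, ⁅x, y⁆ * z = z * ⁅x, y⁆ := by
    intro x y z
    have hdec : ∀ w : Q, ∃ e ∈ E, ∃ r ∈ R, e * r = w := fun w => by
      have hw : w ∈ ((E : Set Q) * (R : Set Q)) := by
        rw [← Subgroup.normal_mul, hsup]; exact Set.mem_univ w
      exact Set.mem_mul.1 hw
    obtain ⟨e, he, r, hr, rfl⟩ := hdec x
    obtain ⟨e', he', r', hr', rfl⟩ := hdec y
    have e1 : ⁅e * r, e' * r'⁆ = ⁅e, e'⁆ := by
      simp only [commutatorElement_def, mul_inv_rev]
      calc e * r * (e' * r') * (r⁻¹ * e⁻¹) * (r'⁻¹ * e'⁻¹)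
          = e * (r * (e' * r')) * r⁻¹ * e⁻¹ * (r'⁻¹ * e'⁻¹) := by simp only [mul_assoc]
        _ = e * e' * (r' * e⁻¹) * (r'⁻¹ * e'⁻¹) := by rw [hRn r hr (e' * r')]; group
        _ = _ := by rw [hRn r' hr' e⁻¹]; group
    rw [e1]
    have hc : (⁅(⟨e, he⟩ : E), ⟨e', he'⟩⁆ : E) ∈ Subgroup.center E := by
      rw [← hEc]
      exact Subgroup.commutator_mem_commutator (mem_top _) (mem_top _)
    obtain ⟨a, ha, r0, hr0, rfl⟩ := hdec z
    have h1 : ⁅e, e'⁆ * a = a * ⁅e, e'⁆ := by
      simpa [commutatorElement_def] using (congrArg Subtype.val ((Subgroup.mem_center_iff.1 hc) ⟨a, ha⟩)).symm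
    rw [← mul_assoc, h1, mul_assoc, ← hRn r0 hr0, mul_assoc]
  have hc2 : ∀ x ∈ Q, ∀ y ∈ Q, ∀ z ∈ Q, Commute ⁅x, y⁆ z := fun x hx y hy z hz => by
    have := congrArg Subtype.val (hclass ⟨x, hx⟩ ⟨y, hy⟩ ⟨z, hz⟩)
    simp only [Subgroup.coe_mul, commutatorElement_def, InvMemClass.coe_inv] at this
    show ⁅x, y⁆ * z = z * ⁅x, y⁆
    rw [commutatorElement_def]
    exact this
  have hcq : ∀ x ∈ Q, ∀ y ∈ Q, x ^ q = 1 → ⁅x, y⁆ ^ q = 1 := fun x hx y hy hxq => by
    have hh : y * x = ⁅y, x⁆ * (x * y) := by rw [commutatorElement_def]; group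
    have e : ∀ n : ℕ, x ^ n * y = ⁅x, y⁆ ^ n * (y * x ^ n) := by
      intro n
      induction n with
      | zero => simp
      | succ n ih =>
        calc x ^ (n + 1) * y = x * (x ^ n * y) := by rw [pow_succ', mul_assoc]
          _ = x * ⁅x, y⁆ ^ n * (y * x ^ n) := by rw [ih, mul_assoc]
          _ = ⁅x, y⁆ ^ n * (x * y) * x ^ n := by
              rw [← ((hc2 x hx y hy x hx).pow_left n).eq]; simp only [mul_assoc]
          _ = ⁅x, y⁆ ^ n * ⁅x, y⁆ * (y * x * x ^ n) := by
              rw [show x * y = ⁅x, y⁆ * (y * x) by rw [commutatorElement_def]; group]; simp only [mul_assoc]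
          _ = _ := by rw [← pow_succ, pow_succ' x n]; simp only [mul_assoc]
    have := e q
    rw [hxq, one_mul, mul_one] at this
    exact mul_eq_right.1 this.symm
  have hchoose : q ∣ q.choose 2 := hq.out.dvd_choose_self two_ne_zero (by omega)
  have hpowq : ∀ x ∈ Q, ∀ y ∈ Q, ⁅y, x⁆ ^ q = 1 → (x * y) ^ q = x ^ q * y ^ q := by
    intro x hx y hy hc
    obtain ⟨k, hk⟩ := hchoose
    rw [mul_pow_of_class_two (c := ⁅y, x⁆) (by rw [commutatorElement_def]; group) (hc2 y hy x hx x hx)
      (hc2 y hy x hx y hy), hk, pow_mul, hc, one_pow, one_mul]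
  let P : Subgroup G :=
    { carrier := {g | g ∈ Q ∧ g ^ q = 1}
      one_mem' := ⟨one_mem _, one_pow _⟩
      mul_mem' := fun {x y} hx hy => ⟨mul_mem hx.1 hy.1, by
        rw [hpowq x hx.1 y hy.1 (hcq y hy.1 x hx.1 hy.2), hx.2, hy.2, one_mul]⟩
      inv_mem' := fun {x} hx => ⟨inv_mem hx.1, by rw [inv_pow, hx.2, inv_one]⟩ }
  haveI hPn : P.Normal := ⟨fun x hx g => ⟨hQn.conj_mem x hx.1 g, by
    rw [conj_pow, hx.2, mul_one, mul_inv_cancel]⟩⟩
  have hPna : ¬ ∀ x ∈ P, ∀ y ∈ P, Commute x y := by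
    intro hPc
    have hcycP := (h.abelian_normal hPc).1
    haveI := hcycP
    have hle : Nat.card P ≤ q := by
      obtain ⟨g, hg⟩ := hcycP.exists_generator
      rw [Nat.card_congr (Subgroup.topEquiv.symm.toEquiv), show (⊤ : Subgroup P) = Subgroup.zpowers g from
        (eq_top_iff.2 fun x _ => hg x).symm, Nat.card_zpowers]
      exact Nat.le_of_dvd hq.out.pos (orderOf_dvd_of_pow_eq_one (Subtype.ext g.2.2))
    -- the `q`-th power map of `E`
    have hEq : ∀ e : E, e ^ q ∈ Subgroup.center E := fun e => by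
      rw [← hEf]
      exact Cfsg.Agent.Grp.pGroup_pow_mem_frattini hEp e
    let f : E →* Subgroup.center E :=
      { toFun := fun e => ⟨e ^ q, hEq e⟩
        map_one' := Subtype.ext (one_pow q)
        map_mul' := fun a b => by
          refine Subtype.ext ?_
          show (a * b) ^ q = a ^ q * b ^ q
          have hc : ⁅b, a⁆ ^ q = 1 := by
            have hm : (⁅b, a⁆ : E) ∈ Subgroup.center E := by
              rw [← hEc]; exact Subgroup.commutator_mem_commutator (mem_top _) (mem_top _)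
            have := pow_card_eq_one' (G := Subgroup.center E) (x := ⟨_, hm⟩)
            rw [hEz] at this
            exact congrArg Subtype.val this
          apply Subtype.ext
          apply Subtype.ext
          simp only [Subgroup.coe_pow, Subgroup.coe_mul]
          refine hpowq _ (a : Q).2 _ (b : Q).2 ?_
          have := congrArg (fun e : E => ((e : Q) : G)) hc
          simpa [commutatorElement_def] using this }
    have hk : Nat.card f.ker ≤ Nat.card P := Nat.card_le_card_of_injective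
      (fun e => ⟨(((e : E) : Q) : G), ((e : E) : Q).2, by
        have := congrArg (fun z : Subgroup.center E => (((z : E) : Q) : G)) (MonoidHom.mem_ker.1 e.2)
        simpa [f] using this⟩)
      fun a b e => Subtype.ext (Subtype.ext (Subtype.ext (congrArg Subtype.val e :)))
    have hEcard : q < Nat.card f.ker := by
      have h1 := f.ker.card_mul_index
      have h2 : f.ker.index ∣ q := by
        rw [Subgroup.index_ker, ← hEz]; exact Subgroup.card_subgroup_dvd_card _
      -- a commutative group of order at most `q ^ 2` would be `E`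
      obtain ⟨n, hn⟩ := hEp.exists_card_eq
      have h3 : 2 < n := by
        by_contra hle'
        have habE : ∀ a b : E, a * b = b * a := by
          rcases (show n = 0 ∨ n = 1 ∨ n = 2 by omega) with rfl | rfl | rfl
          · haveI : Subsingleton E := Finite.card_le_one_iff_subsingleton.1 (by rw [hn, pow_zero])
            exact fun a b => Subsingleton.elim _ _
          · haveI : IsCyclic E := isCyclic_of_prime_card (p := q) (by rw [hn, pow_one])
            exact fun a b => (IsCyclic.isMulCommutative.is_comm.comm a b)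
          · haveI := IsPGroup.isMulCommutative_of_card_eq_prime_sq (p := q) hn
            exact fun a b => mul_comm' a b
        have hct : Subgroup.center E = ⊤ := eq_top_iff.2 fun a _ => Subgroup.mem_center_iff.2 fun b => habE b a
        have hcb : commutator E = ⊥ := by
          rw [_root_.commutator_def]
          exact eq_bot_iff.2 (Subgroup.commutator_le.2 fun a _ b _ =>
            mem_bot.2 (commutatorElement_eq_one_iff_mul_comm.2 (habE a b)))
        rw [hEc, hct] at hcb
        have := hEz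
        rw [hct, hcb, Subgroup.card_bot] at this
        exact hq.out.one_lt.ne this
      rcases (Nat.dvd_prime hq.out).1 h2 with e | e <;> rw [e, hn] at h1
      · rw [mul_one] at h1; rw [h1]; exact lt_self_pow₀ hq.out.one_lt (by omega)
      · rw [show n = n - 1 + 1 by omega, pow_succ] at h1
        rw [Nat.eq_of_mul_eq_mul_right hq.out.pos h1]
        exact lt_self_pow₀ hq.out.one_lt (by omega)
    omega
  let Z : Subgroup G := P ⊓ centralizer (P : Set G)
  haveI hZn : Z.Normal := inferInstance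
  have hZc : ∀ x ∈ Z, ∀ y ∈ Z, Commute x y := fun x hx y hy => (hy.2 x hx.1)
  have hcomm : ∀ g ∈ P, ∀ k ∈ P, ⁅g, k⁆ ∈ Z := fun g hg k hk => by
    refine mem_inf.2 ⟨?_, fun w hw => ((hc2 g hg.1 k hk.1 w hw.1).eq).symm⟩
    rw [commutatorElement_def]
    exact mul_mem (mul_mem (mul_mem hg hk) (inv_mem hg)) (inv_mem hk)
  obtain ⟨hZcyc, hZfpf⟩ := h.abelian_normal hZc
  have hZcard : Nat.card Z = q := by
    obtain ⟨g, hg⟩ := hZcyc.exists_generator
    rw [Nat.card_congr (Subgroup.topEquiv.symm.toEquiv), show (⊤ : Subgroup Z) = Subgroup.zpowers g from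
      (eq_top_iff.2 fun x _ => hg x).symm, Nat.card_zpowers]
    refine orderOf_eq_prime (Subtype.ext g.2.1.2) fun e => hPna fun x hx y hy => ?_
    have h1 : (⟨_, hcomm x hx y hy⟩ : Z) ∈ Subgroup.zpowers g := hg _
    rw [e, Subgroup.zpowers_one_eq_bot, mem_bot] at h1
    exact commutatorElement_eq_one_iff_mul_comm.1 (congrArg Subtype.val h1)
  refine ExtraType.false (q := q) (P := P) (Z := Z) ⟨hq.out, fun g hg => hg.2, inf_le_left, hZcard,
    fun z hz g hg => (hz.2 g hg).symm, fun g hg hc => mem_inf.2 ⟨hg, fun k hk => ((hc k hk).eq).symm⟩, hcomm,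
    hZfpf⟩ h.hp h.ex hqp hq5 h.trans ?_
  by_contra hc
  push Not at hc
  exact hPna fun x hx y hy => (hc x hx).2 y hy |>.symm

/-- The structure of a normal subgroup of odd order or of order prime to three. -/
theorem fitting {D : Subgroup G} [hDn : D.Normal] (hD : ¬ 3 ∣ Nat.card D ∨ Odd (Nat.card D)) :
    IsCyclic ((Cfsg.fittingSubgroup D).map D.subtype) ∧
      (∀ f ∈ (Cfsg.fittingSubgroup D).map D.subtype, f ≠ 1 → ∀ u : U, f • u = u → u = 1) ∧
      ∀ d ∈ D, (∀ f ∈ (Cfsg.fittingSubgroup D).map D.subtype, Commute d f) →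
        d ∈ (Cfsg.fittingSubgroup D).map D.subtype := by
  classical
  haveI := h.faithful
  haveI := h.nontrivial
  set F := (Cfsg.fittingSubgroup D).map D.subtype with hF
  haveI : (Cfsg.fittingSubgroup D).Characteristic := inferInstance
  haveI hFn : F.Normal := by rw [hF]; infer_instance
  haveI : Group.IsNilpotent F := by
    haveI := Cfsg.Agent.Grp.fittingSubgroup_isNilpotent (G := D)
    exact Group.nilpotent_of_mulEquiv (Subgroup.equivMapOfInjective (Cfsg.fittingSubgroup D) _ D.subtype_injective)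
  haveI : IsZGroup F := ⟨fun q hq P => by
    haveI := Fact.mk hq
    haveI : (P : Subgroup F).Characteristic := P.characteristic_of_normal
      (P.normal_of_all_max_subgroups_normal fun H hH => Group.normalizerCondition_of_isNilpotent.normal_of_coatom H hH)
    have hQ := P.isPGroup'.map F.subtype
    haveI := (h.abelian_normal (h.qgroup_comm hQ)).1
    exact isCyclic_of_surjective (Subgroup.equivMapOfInjective (P : Subgroup F) _ F.subtype_injective).symm.toMonoidHom
      (MulEquiv.surjective _)⟩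
  have hFcyc : IsCyclic F := inferInstance
  have hFc : ∀ x ∈ F, ∀ y ∈ F, Commute x y := fun x hx y hy => by
    exact congrArg Subtype.val (IsCyclic.isMulCommutative.is_comm.comm (⟨x, hx⟩ : F) ⟨y, hy⟩)
  have hFfpf := (h.abelian_normal hFc).2
  refine ⟨hFcyc, hFfpf, ?_⟩
  have hFD : F ≤ D := Subgroup.map_subtype_le _
  set W0 := D ⊓ centralizer (F : Set G) with hW0
  haveI : W0.Normal := inferInstance
  suffices hle : W0 ≤ F from fun d hd hc => hle ⟨hd, fun f hf => (hc f hf).eq.symm⟩
  by_contra hle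
  set π := QuotientGroup.mk' F with hπ
  have hker : π.ker = F := QuotientGroup.ker_mk' F
  have hπs : Function.Surjective π := QuotientGroup.mk'_surjective F
  haveI : (W0.map π).Normal := Subgroup.Normal.map inferInstance π hπs
  have hne : W0.map π ≠ ⊥ := fun e => hle (by
    rw [Subgroup.map_eq_bot_iff, hker] at e; exact e)
  obtain ⟨M, hMn, hM, hMle, hmin⟩ := Cfsg.Agent.Grp.exists_minimal_normal_le hne
  set W := M.comap π with hW
  have hFW : F ≤ W := by rw [← hker]; exact MonoidHom.ker_le_comap π M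
  have hWW0 : W ≤ W0 := by
    refine (Subgroup.comap_mono hMle).trans (le_of_eq ?_)
    rw [Subgroup.comap_map_eq, hker, sup_eq_left]
    exact le_inf hFD fun f hf g hg => ((hFc f hf g hg).eq).symm
  haveI : W.Normal := inferInstance
  have hWD : W ≤ D := hWW0.trans inf_le_left
  have hWF : ∀ w ∈ W, ∀ f ∈ F, Commute w f := fun w hw f hf => ((hWW0 hw).2 f hf).symm
  have hMW : W.map π = M := Subgroup.map_comap_eq_self_of_surjective hπs M
  have hna : ¬ ∀ x ∈ M, ∀ y ∈ M, Commute x y := by
    intro hc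
    -- `W` would be nilpotent
    haveI : Group.IsNilpotent W := by
      letI : CommGroup M := { (inferInstance : Group M) with mul_comm := fun a b => Subtype.ext (hc _ a.2 _ b.2).eq }
      refine Subgroup.isNilpotent_of_ker_le_center ((π.comp W.subtype).codRestrict M fun w => w.2) (fun w hw => ?_)
      rw [Subgroup.mem_center_iff]
      intro w'
      have hwF : (w : G) ∈ F := by
        rw [← hker]; exact congrArg (fun m : M => (m : G ⧸ F)) (MonoidHom.mem_ker.1 hw)
      exact Subtype.ext (hWF w' w'.2 w hwF).eq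
    have h1 : W.subgroupOf D ≤ Cfsg.fittingSubgroup D := by
      refine Cfsg.Agent.Grp.le_fittingSubgroup inferInstance ?_
      exact Group.nilpotent_of_mulEquiv (Subgroup.subgroupOfEquivOfLe hWD).symm
    apply hM
    rw [← hMW, Subgroup.map_eq_bot_iff, hker]
    intro w hw
    exact ⟨⟨w, hWD hw⟩, h1 hw, rfl⟩
  have hMdvd : Nat.card M ∣ Nat.card D := by
    rw [← hMW]
    exact (Subgroup.card_map_dvd W π).trans (Subgroup.card_dvd_of_le hWD)
  rcases hD with h3 | hodd
  swap
  · refine hna ?_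
    have hs : Group.IsSolvable M := S0205.result (hodd.of_dvd_nat hMdvd)
    obtain ⟨hab, -⟩ := Cfsg.Agent.Grp.minimal_normal_solvable hs hM hmin
    exact fun x hx y hy => congrArg Subtype.val (hab.is_comm.comm (⟨x, hx⟩ : M) ⟨y, hy⟩)
  obtain ⟨Tb, hTbM, hTb2, hTbi, hTbsq, m, hTbc, -, hTbn⟩ :=
    twoBound_of_minimal M hmin hna fun h' => h3 (h'.trans hMdvd)
  haveI := Fact.mk Nat.prime_two
  set P0 := Tb.comap π with hP0
  have hP0W : P0 ≤ W := Subgroup.comap_mono hTbM
  obtain ⟨S⟩ : Nonempty (Sylow 2 P0) := inferInstance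
  set T := (S : Subgroup P0).map P0.subtype with hT
  have hTP0 : T ≤ P0 := Subgroup.map_subtype_le _
  have hT2 : IsPGroup 2 T := S.isPGroup'.map _
  have hTmap : T.map π = Tb := by
    let φ : P0 →* Tb := (π.comp P0.subtype).codRestrict Tb fun x => x.2
    have hφ : Function.Surjective φ := fun t => by
      obtain ⟨g, hg⟩ := hπs t
      exact ⟨⟨g, by rw [hP0, Subgroup.mem_comap, hg]; exact t.2⟩, Subtype.ext hg⟩
    have h1 : ((S.mapSurjective hφ : Sylow 2 Tb) : Subgroup Tb) = ⊤ :=
      eq_top_iff.2 ((S.mapSurjective hφ).3 (hTb2.to_subgroup ⊤) le_top).le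
    rw [Sylow.coe_mapSurjective] at h1
    refine le_antisymm (Subgroup.map_le_iff_le_comap.2 hTP0) fun t ht => ?_
    obtain ⟨x, hx, hxt⟩ := h1.ge (mem_top (⟨t, ht⟩ : Tb))
    exact ⟨x, ⟨x, hx, rfl⟩, congrArg Subtype.val hxt⟩
  -- `T` is the only Sylow subgroup of `P0`
  have huniq : ∀ K : Subgroup G, K ≤ P0 → IsPGroup 2 K → K ≤ T := by
    intro K hK hK2
    haveI hSn : (S : Subgroup P0).Normal := ⟨fun t ht g => by
      have h1 : π g ∈ T.map π := hTmap.ge g.2
      obtain ⟨s, hs, hsg⟩ := h1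
      have hf : s⁻¹ * (g : G) ∈ F := by
        rw [← hker, MonoidHom.mem_ker, map_mul, map_inv, hsg, inv_mul_cancel]
      obtain ⟨s', hs', rfl⟩ := hs
      have hc : Commute ((s' : G)⁻¹ * g) (t : G) := (hWF t (hP0W t.2) _ hf).symm
      have e : g * t * g⁻¹ = s' * t * s'⁻¹ := by
        apply Subtype.ext
        show (g : G) * t * (g : G)⁻¹ = (s' : G) * t * (s' : G)⁻¹
        calc (g : G) * t * (g : G)⁻¹ = s' * (((s' : G)⁻¹ * g) * t) * ((s' : G)⁻¹ * g)⁻¹ * (s' : G)⁻¹ := by group
          _ = _ := by rw [hc.eq]; group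
      rw [e]
      exact mul_mem (mul_mem hs' ht) (inv_mem hs')⟩
    haveI : Unique (Sylow 2 P0) := Sylow.unique_of_normal S hSn
    have hK' : IsPGroup 2 (K.subgroupOf P0) := hK2.of_equiv (Subgroup.subgroupOfEquivOfLe hK).symm
    obtain ⟨S', hS'⟩ := hK'.exists_le_sylow
    rw [Unique.eq_default S', ← Unique.eq_default S] at hS'
    exact fun k hk => ⟨⟨k, hK hk⟩, hS' hk, rfl⟩
  obtain ⟨v, hv, hvfix⟩ := exists_fixed_of_lines h.hp h.ex
    (h.lines Nat.prime_two (by have := Nat.odd_iff.1 (h.hp.odd_of_ne_two h.p2); omega)) T hT2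
  set A := ⁅T, T⁆ with hA
  have hAF : ∀ x ∈ A, x ∈ F → x = 1 := fun x hx hxF => by
    by_contra hx1
    exact hv (hFfpf x hxF hx1 v (hvfix x hx))
  have hAmap : A.map π = ⁅Tb, Tb⁆ := by rw [hA, Subgroup.map_commutator, hTmap]
  have hAcard : Nat.card A = 2 ^ m := by
    rw [← hTbc, ← hAmap]
    exact Nat.card_congr (Equiv.ofBijective (fun a : A => (⟨π a, ⟨a, a.2, rfl⟩⟩ : A.map π))
      ⟨fun a b e => Subtype.ext (inv_mul_eq_one.1 (hAF _ (mul_mem (inv_mem a.2) b.2) (by
        rw [← hker, MonoidHom.mem_ker, map_mul, map_inv,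
          show π a = π b from congrArg Subtype.val e, inv_mul_cancel]))),
      fun ⟨t, a, ha, hat⟩ => ⟨⟨a, ha⟩, Subtype.ext hat⟩⟩)
  have hAsq : ∀ a ∈ A, a * a = 1 := fun a ha => hAF _ (mul_mem ha ha) (by
    rw [← hker, MonoidHom.mem_ker, map_mul]
    exact hTbsq _ (hAmap.le ⟨a, ha, rfl⟩))
  have hineq := pow_mul_card_fixU_le h.hp h.p2 h.ex m A hAsq
    (fun a _ hfix => eq_of_smul_eq_smul (α := U) fun u => (hfix u).trans (one_smul G u).symm) hAcard
  -- covering by the conjugates under `W`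
  let N := (normalizer (Tb : Set (G ⧸ F))).subgroupOf M
  let Q := M ⧸ N
  haveI := Fintype.ofFinite U
  haveI := Fintype.ofFinite Q
  have hlift : ∀ c : Q, ∃ w : G, π w = ((c.out : M) : G ⧸ F) := fun c => hπs _
  choose lift hliftc using hlift
  let Y : Q → Subgroup G := fun c => A.map (MulAut.conj (lift c)).toMonoidHom
  have hcov : ∀ u : U, u ≠ 1 → ∃ c : Q, u ∈ fixU U (Y c) := by
    intro u hu
    obtain ⟨g, rfl⟩ := h.trans v u hv hu
    obtain ⟨S1⟩ : Nonempty (Sylow 2 M) := inferInstance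
    have hTbS : ∀ g : G ⧸ F, ∃ S2 : Sylow 2 M,
        (S2 : Subgroup M) = (Tb.map (MulAut.conj g).toMonoidHom).subgroupOf M := by
      intro g
      have hle : Tb.map (MulAut.conj g).toMonoidHom ≤ M := by
        rintro _ ⟨t, ht, rfl⟩
        exact hMn.conj_mem t (hTbM ht) g
      have hp2 : IsPGroup 2 ((Tb.map (MulAut.conj g).toMonoidHom).subgroupOf M) :=
        (hTb2.map _).of_equiv (Subgroup.subgroupOfEquivOfLe hle).symm
      refine ⟨hp2.toSylow ?_, rfl⟩
      show ¬ 2 ∣ (Tb.map (MulAut.conj g).toMonoidHom).relIndex M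
      have hMg : M.map (MulAut.conj g).toMonoidHom = M := by
        refine eq_of_le_of_card_ge ?_ (le_of_eq (Nat.card_congr
          (Subgroup.equivMapOfInjective M (MulAut.conj g).toMonoidHom (MulEquiv.injective _)).toEquiv))
        rintro _ ⟨t, ht, rfl⟩
        exact hMn.conj_mem t ht g
      rw [← hMg, Subgroup.relIndex_map_map_of_injective _ _ (MulEquiv.injective (MulAut.conj g))]
      exact hTbi
    obtain ⟨S2, hS2⟩ := hTbS (π g)
    obtain ⟨S3, hS3⟩ := hTbS 1
    obtain ⟨mm, hmm⟩ := MulAction.exists_smul_eq M S3 S2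
    refine ⟨(mm : Q), ?_⟩
    set w := lift (mm : Q) with hw
    have hsame : (Tb.map (MulAut.conj (π w)).toMonoidHom) = Tb.map (MulAut.conj (π g)).toMonoidHom := by
      have hn : (((mm : Q).out : M) : G ⧸ F)⁻¹ * (mm : G ⧸ F) ∈ normalizer (Tb : Set (G ⧸ F)) := by
        have := QuotientGroup.eq.1 (QuotientGroup.out_eq' (mm : Q))
        simpa [N, Subgroup.mem_subgroupOf] using this
      rw [hw, hliftc]
      set o := (((mm : Q).out : M) : G ⧸ F)
      refine eq_of_le_of_card_ge ?_ (le_of_eq ?_)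
      · rintro _ ⟨t, ht, rfl⟩
        have hmem : (mm : G ⧸ F) * ((o⁻¹ * mm)⁻¹ * t * (o⁻¹ * mm)) * (mm : G ⧸ F)⁻¹ = o * t * o⁻¹ := by group
        have ht' : (o⁻¹ * mm)⁻¹ * t * (o⁻¹ * mm) ∈ Tb := by
          simpa using conj_mem_of_norm (inv_mem hn) ht
        show o * t * o⁻¹ ∈ Tb.map (MulAut.conj (π g)).toMonoidHom
        rw [← hmem]
        have hx : (⟨(o⁻¹ * mm)⁻¹ * t * (o⁻¹ * mm), hTbM ht'⟩ : M) ∈ (S3 : Subgroup M) := by
          rw [hS3]; exact ⟨_, ht', by simp⟩
        have hx' : mm * ⟨(o⁻¹ * mm)⁻¹ * t * (o⁻¹ * mm), hTbM ht'⟩ * mm⁻¹ ∈ (S2 : Subgroup M) := by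
          rw [← hmm]
          exact ⟨_, hx, rfl⟩
        rw [hS2] at hx'
        exact hx'
      · rw [← Nat.card_congr (Subgroup.equivMapOfInjective Tb (MulAut.conj (π g)).toMonoidHom (MulEquiv.injective _)).toEquiv,
          Nat.card_congr (Subgroup.equivMapOfInjective Tb (MulAut.conj o).toMonoidHom (MulEquiv.injective _)).toEquiv]
    have hgT : T.map (MulAut.conj g).toMonoidHom ≤ T.map (MulAut.conj w).toMonoidHom := by
      have hK : (T.map (MulAut.conj g).toMonoidHom).map (MulAut.conj w⁻¹).toMonoidHom ≤ T := by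
        refine huniq _ ?_ ((hT2.map _).map _)
        rintro _ ⟨_, ⟨t, ht, rfl⟩, rfl⟩
        rw [hP0, Subgroup.mem_comap]
        obtain ⟨s, hs, hst⟩ := hsame.ge ⟨π t, hTmap.le ⟨t, ht, rfl⟩, rfl⟩
        have hst' : π w * s * (π w)⁻¹ = π g * π t * (π g)⁻¹ := hst
        show π (w⁻¹ * (g * t * g⁻¹) * w⁻¹⁻¹) ∈ Tb
        simp only [map_mul, map_inv]
        rw [← hst']
        simpa [mul_assoc] using hs
      rintro x hx
      exact ⟨w⁻¹ * x * w⁻¹⁻¹, hK ⟨x, hx, rfl⟩, by simp [mul_assoc]⟩
    have hYeq : A.map (MulAut.conj w).toMonoidHom ≤ A.map (MulAut.conj g).toMonoidHom := by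
      have heq : T.map (MulAut.conj g).toMonoidHom = T.map (MulAut.conj w).toMonoidHom :=
        eq_of_le_of_card_ge hgT (le_of_eq (by
          rw [← Nat.card_congr (Subgroup.equivMapOfInjective T (MulAut.conj g).toMonoidHom (MulEquiv.injective _)).toEquiv,
            ← Nat.card_congr (Subgroup.equivMapOfInjective T (MulAut.conj w).toMonoidHom (MulEquiv.injective _)).toEquiv]))
      rw [hA, Subgroup.map_commutator, Subgroup.map_commutator, heq]
    refine fixU_anti hYeq ?_
    rintro _ ⟨a, ha, rfl⟩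
    show (g * a * g⁻¹) • g • v = g • v
    rw [mul_smul, mul_smul, inv_smul_smul, hvfix a ha]
  have hcount : Nat.card U ≤ Nat.card Q * Nat.card (fixU U A) := by
    have hsub : (Finset.univ : Finset U) ⊆
        (Finset.univ : Finset Q).biUnion fun c => (Finset.univ.filter fun u => u ∈ fixU U (Y c)) := by
      intro u _
      simp only [Finset.mem_biUnion, Finset.mem_filter, Finset.mem_univ, true_and]
      rcases eq_or_ne u 1 with rfl | hu
      · exact ⟨((1 : M) : Q), one_mem _⟩
      · exact hcov u hu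
    have h1 := (Finset.card_le_card hsub).trans (Finset.card_biUnion_le_card_mul (Finset.univ : Finset Q) _
      (Nat.card (fixU U A)) fun c _ => le_of_eq (by
        rw [← card_fixU_conj A (lift c), Nat.card_eq_fintype_card, Fintype.card_subtype]))
    rw [Finset.card_univ, Finset.card_univ, ← Nat.card_eq_fintype_card, ← Nat.card_eq_fintype_card] at h1
    exact h1
  have hQ : Nat.card Q < 5 ^ m := hTbn hM
  have hp5 : 5 ≤ p := by
    have h1 := h.hp.two_le; have h2 := h.p2; have h3' := h.p3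
    have h4 : p ≠ 4 := fun e => absurd (e ▸ h.hp) (by decide)
    omega
  have := Nat.le_of_mul_le_mul_right (hineq.trans hcount) Nat.card_pos
  exact absurd ((Nat.pow_le_pow_left hp5 m).trans this) (not_le.2 hQ)

end LinHyp

end Cfsg.Agent.Invol.TripleNormal
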