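import Cfsg.Agent.Lib.Invol.TripleNormal.SzProd
import Cfsg.Agent.Lib.Invol.TripleNormal.Hua
import Cfsg.Agent.Lib.Block.RegularNormal
import Cfsg.Agent.S0700
import Cfsg.Agent.S0205

/-!
# The point stabilizer: a regular kernel or a doubly transitive Suzuki group
-/

set_option autoImplicit false
set_option linter.style.haveILetI false

namespace Cfsg.Agent.Invol.TripleNormal

open MulAction Subgroup

universe u v

/-- The Sylow subgroups of a Suzuki group: one is transitive on the others. -/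
theorem suzuki_sylow_trans {B : Type*} [Group B] [Finite B] (h : Cfsg.Lie.IsoSuzuki B) (S : Sylow 2 B)
    {T T' : Sylow 2 B} (hT : T ≠ S) (hT' : T' ≠ S) : ∃ s ∈ (S : Subgroup B), s • T = T' := by
  classical
  haveI := Fact.mk Nat.prime_two
  have hsemi : ∀ {U : Sylow 2 B}, U ≠ S → ∀ s ∈ (S : Subgroup B), s • U = U → s = 1 := by
    intro U hU s hs hfix
    by_contra hs1
    have hn : s ∈ normalizer ((U : Subgroup B) : Set B) := Sylow.smul_eq_iff_mem_normalizer.1 hfix
    have hsU : s ∈ (U : Subgroup B) := by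
      have hp : IsPGroup 2 (Subgroup.zpowers s ⊔ (U : Subgroup B) : Subgroup B) :=
        IsPGroup.to_sup_of_normal_right' (S.isPGroup'.to_le (Subgroup.zpowers_le.2 hs)) U.isPGroup'
          (Subgroup.zpowers_le.2 hn)
      exact (U.3 hp le_sup_right).le (mem_sup_left (Subgroup.mem_zpowers s))
    obtain ⟨z, hz, hz2, hz1⟩ := Invol.ThreeFree.sz_exists_omega h U
    have hzS : z ∈ (S : Subgroup B) :=
      Invol.ThreeFree.sz_centralizer h S hs hs1 (Invol.ThreeFree.sz_omega_central h U hz hz2 hsU).symm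
    exact hU (Sylow.ext (U.3 S.isPGroup' fun y hy => Invol.ThreeFree.sz_centralizer h S hzS hz1
      (Invol.ThreeFree.sz_omega_central h U hz hz2 hy))).symm
  obtain ⟨F, i1, i2, m, hS, e, he⟩ := Invol.ThreeFree.exists_frame h S
  have hmap : (S : Subgroup B) = (Cfsg.Agent.Suz.unip hS).map e.toMonoidHom := by
    ext y
    obtain ⟨y, rfl⟩ := e.surjective y
    rw [he]
    exact (Subgroup.mem_map_iff_mem (f := e.toMonoidHom) e.injective).symm
  have hScard : Nat.card (S : Subgroup B) = (2 ^ (2 * m + 1)) ^ 2 := by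
    rw [hmap, ← Nat.card_congr (Subgroup.equivMapOfInjective _ _ e.injective).toEquiv,
      Cfsg.Agent.Suz.card_unip hS]
  have hsyl : Nat.card (Sylow 2 B) ≤ Nat.card (S : Subgroup B) + 1 := by
    rw [S.card_eq_index_normalizer, hScard]
    refine le_trans (Nat.le_of_dvd (Nat.pos_of_ne_zero index_ne_zero_of_finite)
      (Subgroup.index_dvd_of_le (H := (Cfsg.Agent.Suz.borel m F).map e.toMonoidHom) ?_)) (le_of_eq ?_)
    · rintro _ ⟨g, hg, rfl⟩
      refine Subgroup.mem_normalizer_fintype fun x hx => ?_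
      obtain ⟨x, rfl⟩ := e.surjective x
      show e g * e x * (e g)⁻¹ ∈ (S : Subgroup B)
      rw [← map_inv, ← map_mul, ← map_mul, he]
      exact (mem_normalizer_iff.1 (Cfsg.Agent.Suz.borel_le_normalizer hS hg) x).1 ((he _).1 hx)
    · rw [Subgroup.index_map_of_bijective e.bijective, Cfsg.Agent.Suz.index_borel hS]
  haveI := Fintype.ofFinite (Sylow 2 B)
  haveI := Fintype.ofFinite (S : Subgroup B)
  let f : ↥(S : Subgroup B) → {U : Sylow 2 B // U ≠ S} := fun s => ⟨(s : B) • T, fun e' => hT (by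
    have h1 : (s : B) • S = S :=
      Sylow.smul_eq_iff_mem_normalizer.2 (Subgroup.le_normalizer s.2)
    exact smul_left_cancel (s : B) (e'.trans h1.symm))⟩
  have hf : Function.Injective f := fun s s' e' => by
    have e1 : (s : B) • T = (s' : B) • T := congrArg Subtype.val e'
    exact Subtype.ext (inv_mul_eq_one.1 (hsemi hT ((s' : B)⁻¹ * s) (mul_mem (inv_mem s'.2) s.2)
      (by rw [mul_smul, e1, inv_smul_smul]))).symm
  have hc : Nat.card {U : Sylow 2 B // U ≠ S} ≤ Nat.card (S : Subgroup B) := by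
    rw [← Nat.card_congr (Equiv.optionSubtypeNe S), Finite.card_option] at hsyl
    omega
  have hbij := (Nat.bijective_iff_injective_and_card f).2
    ⟨hf, le_antisymm (Nat.card_le_card_of_injective f hf) hc⟩
  obtain ⟨s, hs⟩ := hbij.2 ⟨T', hT'⟩
  exact ⟨s, s.2, congrArg Subtype.val hs⟩

/-- A transitive normal Suzuki subgroup of a doubly transitive group of odd degree is doubly transitive. -/
theorem suzuki_two_trans {X : Type*} [Group X] [Finite X] {α : Type*} [Finite α] [MulAction X α] [FaithfulSMul X α]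
    (h2 : MulAction.IsMultiplyPretransitive X α 2) (N : Subgroup X) [hN : N.Normal]
    (hSz : Cfsg.Lie.IsoSuzuki N) (hodd : Odd (Nat.card α)) (htr : MulAction.IsPretransitive N α)
    {b x y : α} (hx : x ≠ b) (hy : y ≠ b) : ∃ k ∈ N, k • b = b ∧ k • x = y := by
  classical
  haveI := Fact.mk Nat.prime_two
  let Fix : Sylow 2 N → α → Prop := fun S z => (S : Subgroup N) ≤ stabilizer N z
  have hex : ∀ z : α, ∃ S, Fix S z := by
    intro z
    obtain ⟨P⟩ : Nonempty (Sylow 2 (stabilizer N z)) := inferInstance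
    obtain ⟨S, hS⟩ := (P.isPGroup'.map (stabilizer N z).subtype).exists_le_sylow
    refine ⟨S, ?_⟩
    have hidx : ¬ 2 ∣ ((P : Subgroup (stabilizer N z)).map (stabilizer N z).subtype).index := by
      rw [Subgroup.index_map_subtype, MulAction.index_stabilizer_of_transitive N z]
      exact fun h => (Nat.prime_two.dvd_mul.1 h).elim P.not_dvd_index
        (fun h' => Nat.not_even_iff_odd.2 hodd (even_iff_two_dvd.2 h'))
    let P' : Sylow 2 N := (P.isPGroup'.map (stabilizer N z).subtype).toSylow hidx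
    have e : (S : Subgroup N) = (P' : Subgroup N) := P'.3 S.isPGroup' hS
    exact e.le.trans (Subgroup.map_subtype_le _)
  have hall : ∀ S : Sylow 2 N, (∀ z, Fix S z) → False := by
    intro S hS
    obtain ⟨w, hw, -, hw1⟩ := Invol.ThreeFree.sz_exists_omega hSz S
    exact hw1 (Subtype.ext (eq_of_smul_eq_smul fun z : α => (show w • z = z from hS z hw).trans (one_smul X z).symm))
  have hsmul : ∀ (g : N) (S : Sylow 2 N) (z : α), Fix S z → Fix (g • S) (g • z) := by
    rintro g S z hS w ⟨v, hv, rfl⟩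
    show (g * v * g⁻¹) • g • z = g • z
    rw [mul_smul, mul_smul, inv_smul_smul, show v • z = z from hS hv]
  have huniq : ∀ (z : α) (S S' : Sylow 2 N), Fix S z → Fix S' z → S = S' := by
    intro z S S' hS hS'
    by_contra hne
    have hallT : ∀ T, Fix T z := by
      intro T
      rcases eq_or_ne T S with rfl | hT
      · exact hS
      obtain ⟨s, hs, rfl⟩ := suzuki_sylow_trans hSz S (Ne.symm hne) hT
      have hsz : s • z = z := hS hs
      simpa [hsz] using hsmul s S' z hS'
    refine hall S fun w => ?_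
    obtain ⟨g, rfl⟩ := MulAction.exists_smul_eq N z w
    simpa using hsmul g (g⁻¹ • S) z (hallT _)
  have hinj : ∀ (z w : α) (S : Sylow 2 N), Fix S z → Fix S w → z = w := by
    intro z w S hz hw
    by_contra hne
    have hshare : ∀ p q : α, p ≠ q → ∃ T, Fix T p ∧ Fix T q := by
      intro p q hpq
      obtain ⟨g, gp, gq⟩ := (MulAction.is_two_pretransitive_iff.1 h2) hne hpq
      let φ : N ≃* N :=
        { toFun := fun n => ⟨g * n * g⁻¹, hN.conj_mem _ n.2 g⟩
          invFun := fun n => ⟨g⁻¹ * n * g⁻¹⁻¹, hN.conj_mem _ n.2 g⁻¹⟩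
          left_inv := fun n => Subtype.ext (by simp [mul_assoc])
          right_inv := fun n => Subtype.ext (by simp [mul_assoc])
          map_mul' := fun n n' => Subtype.ext (by simp [mul_assoc]) }
      have hsurj : Function.Surjective φ.toMonoidHom := φ.surjective
      refine ⟨S.mapSurjective hsurj, ?_, ?_⟩ <;>
        rintro _ hmem <;> rw [Sylow.coe_mapSurjective] at hmem <;> obtain ⟨v, hv, rfl⟩ := hmem
      · show (g * (v : X) * g⁻¹) • p = p
        rw [← gp, mul_smul, mul_smul, inv_smul_smul, show (v : X) • z = z from hz hv]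
      · show (g * (v : X) * g⁻¹) • q = q
        rw [← gq, mul_smul, mul_smul, inv_smul_smul, show (v : X) • w = w from hw hv]
    refine hall S fun p => ?_
    rcases eq_or_ne p z with rfl | hp
    · exact hz
    obtain ⟨T, hTp, hTz⟩ := hshare p z hp
    exact (huniq z T S hTz hz) ▸ hTp
  obtain ⟨S, hS⟩ := hex b
  obtain ⟨Tx, hTx⟩ := hex x
  obtain ⟨Ty, hTy⟩ := hex y
  obtain ⟨s, hs, hst⟩ := suzuki_sylow_trans hSz S
    (T := Tx) (T' := Ty) (fun e => hx (hinj x b Tx hTx (e ▸ hS))) (fun e => hy (hinj y b Ty hTy (e ▸ hS)))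
  exact ⟨s, s.2, hS hs, hinj (s • x) y Ty (hst ▸ hsmul s Tx x hTx) hTy⟩

variable {G : Type u} [Group G] [Finite G] {Ω : Type v} [MulAction G Ω]

/-- Either `H` has one colour or `H ∩ G_a` contains an abelian regular kernel. -/
theorem TriSetup.point_cases {H : Subgroup G} (S : TriSetup H Ω) {a b : Ω} (hab : a ≠ b)
    (hcond : ¬ 3 ∣ Nat.card (H ⊓ stabilizer G a : Subgroup G) ∨
      Odd (Nat.card (H ⊓ stabilizer G a : Subgroup G))) :
    colours H a b ≤ 1 ∨ ∃ U, Kernel H a U := by
  classical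
  haveI := S.fin
  haveI := S.faithful
  haveI := S.normal
  let A := {z : Ω // z ≠ a}
  haveI := Fintype.ofFinite A
  letI : MulAction (stabilizer G a) A :=
    { smul := fun g z => ⟨(g : G) • (z : Ω), fun e => z.2 (smul_left_cancel (g : G) (e.trans g.2.symm))⟩
      one_smul := fun z => Subtype.ext (one_smul G (z : Ω))
      mul_smul := fun g h z => Subtype.ext (mul_smul (g : G) (h : G) (z : Ω)) }
  let φ := MulAction.toPermHom (stabilizer G a) A
  have hφ : Function.Injective φ := fun g g' e => Subtype.ext (eq_of_smul_eq_smul (α := Ω) fun z => by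
    rcases eq_or_ne z a with rfl | hz
    · exact g.2.trans g'.2.symm
    · exact congrArg Subtype.val (Equiv.congr_fun e ⟨z, hz⟩))
  set X := φ.range with hX
  let e : stabilizer G a ≃* X := MonoidHom.ofInjective hφ
  have he : ∀ (g : stabilizer G a) (z : A), ((e g • z : A) : Ω) = (g : G) • (z : Ω) := fun g z => rfl
  have h2 : MulAction.IsMultiplyPretransitive X A 2 := by
    refine MulAction.is_two_pretransitive_iff.2 fun {x y z w} hxy hzw => ?_
    obtain ⟨g, ga, gx, gy⟩ := S.three_trans (Ne.symm x.2) (fun e' => hxy (Subtype.ext e'))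
      (Ne.symm y.2) (Ne.symm z.2) (fun e' => hzw (Subtype.ext e')) (Ne.symm w.2)
    exact ⟨e ⟨g, ga⟩, Subtype.ext gx, Subtype.ext gy⟩
  haveI : FaithfulSMul X A := ⟨fun {g g'} h => Subtype.ext (Equiv.ext fun z => h z)⟩
  haveI : MulAction.IsPreprimitive X A := MulAction.isPreprimitive_of_is_two_pretransitive h2
  have heinj : Function.Injective e.toMonoidHom := e.injective
  set K := (H.subgroupOf (stabilizer G a)).map e.toMonoidHom with hK
  haveI : K.Normal := (inferInstance : (H.subgroupOf (stabilizer G a)).Normal).map _ e.surjective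
  have hKne : K ≠ ⊥ := fun h => S.stab_ne_bot a (by
    rw [hK, Subgroup.map_eq_bot_iff_of_injective _ heinj, Subgroup.subgroupOf_eq_bot, disjoint_iff] at h
    exact h)
  obtain ⟨N, hNn, hN, hNK, hmin⟩ := Cfsg.Agent.Grp.exists_minimal_normal_le hKne
  have hback : ∀ n : X, n ∈ N → ((e.symm n : stabilizer G a) : G) ∈ H := by
    intro n hn
    obtain ⟨g, hg, rfl⟩ := hNK hn
    simpa using mem_subgroupOf.1 hg
  have hsm : ∀ (n : X) (z : A), ((e.symm n : stabilizer G a) : G) • (z : Ω) = ((n • z : A) : Ω) := fun n z => by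
    rw [← he, MulEquiv.apply_symm_apply]
  haveI htr : MulAction.IsPretransitive N A := Cfsg.Agent.Block.transitive_of_normal hN
  have hdvd : Nat.card N ∣ Nat.card (H ⊓ stabilizer G a : Subgroup G) := by
    refine (Subgroup.card_dvd_of_le hNK).trans (dvd_of_eq ?_)
    rw [hK, ← Nat.card_congr (Subgroup.equivMapOfInjective _ _ heinj).toEquiv, ← Subgroup.inf_subgroupOf_right]
    exact Nat.card_congr (Subgroup.subgroupOfEquivOfLe (inf_le_right : H ⊓ stabilizer G a ≤ stabilizer G a)).toEquiv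
  by_cases hNc : IsMulCommutative N
  · right
    have hcm : ∀ x ∈ N, ∀ y ∈ N, x * y = y * x := fun x hx y hy =>
      congrArg Subtype.val (hNc.is_comm.comm (⟨x, hx⟩ : N) ⟨y, hy⟩)
    obtain ⟨hreg, -⟩ := Cfsg.Agent.Block.regular_of_commute htr htr hcm
    obtain ⟨p, hp, hpow⟩ := Cfsg.Agent.Block.minimal_normal_abelian_exponent hN hmin hNc
    refine ⟨(N.map e.symm.toMonoidHom).map (stabilizer G a).subtype, ?_, ?_, ?_, ?_, ⟨p, hp, ?_⟩, ?_⟩
    · rintro _ ⟨_, ⟨n, hn, rfl⟩, rfl⟩
      exact hback n hn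
    · rintro _ ⟨n, -, rfl⟩
      exact n.2
    · rintro g hg _ ⟨_, ⟨n, hn, rfl⟩, rfl⟩
      refine ⟨_, ⟨e ⟨g, hg⟩ * n * (e ⟨g, hg⟩)⁻¹, hNn.conj_mem n hn _, rfl⟩, ?_⟩
      simp
    · rintro _ ⟨_, ⟨n, hn, rfl⟩, rfl⟩ _ ⟨_, ⟨n', hn', rfl⟩, rfl⟩
      show _ * _ = _ * _
      rw [← map_mul, ← map_mul, ← map_mul, ← map_mul, hcm n hn n' hn']
    · rintro _ ⟨_, ⟨n, hn, rfl⟩, rfl⟩
      rw [← map_pow, ← map_pow, hpow n hn, map_one, map_one]
    · intro y z hy hz
      obtain ⟨n, hn⟩ := MulAction.exists_smul_eq N (⟨y, hy⟩ : A) ⟨z, hz⟩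
      refine ⟨⟨_, ⟨_, ⟨(n : X), n.2, rfl⟩, rfl⟩⟩, ?_, ?_⟩
      · exact (hsm (n : X) ⟨y, hy⟩).trans (congrArg Subtype.val hn)
      · rintro ⟨_, _, ⟨n', hn', rfl⟩, rfl⟩ h
        apply Subtype.ext
        have hnn : (⟨n', hn'⟩ : N) = n := Cfsg.Agent.Block.regular_inj hreg (a := (⟨y, hy⟩ : A))
          ((Subtype.ext ((hsm n' ⟨y, hy⟩).symm.trans h) : n' • (⟨y, hy⟩ : A) = ⟨z, hz⟩).trans hn.symm)
        show ((e.symm n' : stabilizer G a) : G) = ((e.symm (n : X) : stabilizer G a) : G)
        rw [← hnn]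
  left
  have hsimple : IsSimpleGroup N := by
    rcases S0700.result X h2 N hN hmin with h | h
    · exact absurd h.1 hNc
    · exact h.1
  rcases hcond with h3 | ho
  swap
  · exact absurd ⟨⟨IsSimpleGroup.comm_iff_isSolvable.2 (S0205.result (ho.of_dvd_nat hdvd))⟩⟩ hNc
  have hSz : Cfsg.Lie.IsoSuzuki N := Invol.ThreeFree.isoSuzuki hNc fun h => h3 (h.trans hdvd)
  have hodd : Odd (Nat.card A) := by
    have h1 : Nat.card A + 1 = Nat.card Ω := by
      rw [← Nat.card_congr (Equiv.optionSubtypeNe a), Finite.card_option]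
    obtain ⟨k, hk⟩ := S.even
    exact ⟨k - 1, by have := S.big; omega⟩
  haveI : Subsingleton (letI := othersAction H a b; orbitRel.Quotient (stabTwo H a b) (Others a b)) := by
    letI := othersAction H a b
    refine ⟨fun q q' => ?_⟩
    induction q using Quotient.inductionOn with
    | h c =>
      induction q' using Quotient.inductionOn with
      | h c' =>
        obtain ⟨k, hk, hkb, hkc⟩ := suzuki_two_trans h2 N hSz hodd htr
          (b := (⟨b, Ne.symm hab⟩ : A)) (x := ⟨c'.1, c'.2.1⟩) (y := ⟨c.1, c.2.1⟩)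
          (fun e' => c'.2.2 (congrArg Subtype.val e')) (fun e' => c.2.2 (congrArg Subtype.val e'))
        refine Quotient.sound' ⟨⟨((e.symm k : stabilizer G a) : G), mem_stabTwo.2 ⟨hback k hk, (e.symm k).2,
          (hsm k ⟨b, Ne.symm hab⟩).trans (congrArg Subtype.val hkb)⟩⟩, Subtype.ext ?_⟩
        exact (hsm k ⟨c'.1, c'.2.1⟩).trans (congrArg Subtype.val hkc)
  exact Finite.card_le_one_iff_subsingleton.2 this

end Cfsg.Agent.Invol.TripleNormal
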