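import Cfsg.Agent.Lib.Invol.TripleNormal.Descent
import Cfsg.Agent.Lib.Invol.TripleNormal.PointKernel
import Cfsg.Agent.S0699

/-!
# At most two orbits on triples
-/

set_option autoImplicit false
set_option linter.style.haveILetI false

namespace Cfsg.Agent.Invol.TripleNormal

open MulAction Subgroup

universe u v

variable {G : Type u} [Group G] {Ω : Type v} [MulAction G Ω]

theorem card_le_one_of_tri {H : Subgroup G} (h : MulAction.IsMultiplyPretransitive H Ω 3) [Finite Ω] :
    Nat.card (orbitRel.Quotient H (Fin 3 ↪ Ω)) ≤ 1 := by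
  refine Finite.card_le_one_iff_subsingleton.2 ⟨fun p q => ?_⟩
  induction p using Quotient.inductionOn' with
  | h t =>
    induction q using Quotient.inductionOn' with
    | h t' =>
      haveI := h
      obtain ⟨g, hg⟩ := MulAction.exists_smul_eq H t' t
      exact Quotient.sound' ⟨g, hg⟩

/-- Odd degree: Wagner's theorem. -/
theorem tri_of_odd [Finite G] [Finite Ω] [FaithfulSMul G Ω] (h3 : MulAction.IsMultiplyPretransitive G Ω 3)
    (hd : 3 ∣ Nat.card Ω) (hbig : 3 < Nat.card Ω) (hodd : Odd (Nat.card Ω)) (H : Subgroup G) [hH : H.Normal]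
    (hne : H ≠ ⊥) : MulAction.IsMultiplyPretransitive H Ω 3 := by
  classical
  haveI := Fintype.ofFinite Ω
  let φ := MulAction.toPermHom G Ω
  have hφ : Function.Injective φ := MulAction.toPerm_injective
  haveI : ((H.map φ.rangeRestrict) : Subgroup φ.range).Normal := hH.map _ φ.rangeRestrict_surjective
  have hne' : H.map φ.rangeRestrict ≠ ⊥ := by
    rw [Ne, Subgroup.map_eq_bot_iff_of_injective _ fun g g' e => hφ (congrArg Subtype.val e)]
    exact hne
  have htri : MulAction.IsMultiplyPretransitive φ.range Ω 3 := ⟨fun t t' => by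
    haveI := h3
    obtain ⟨g, hg⟩ := MulAction.exists_smul_eq G t t'
    exact ⟨φ.rangeRestrict g, by rw [← hg]; ext i; rfl⟩⟩
  have hN := S0699.result φ.range (by rwa [← Nat.card_eq_fintype_card])
    (by rw [← Nat.card_eq_fintype_card]; obtain ⟨k, hk⟩ := hodd; omega) htri (H.map φ.rangeRestrict) hne'
  refine ⟨fun t t' => ?_⟩
  haveI := hN
  obtain ⟨⟨-, g, hg, rfl⟩, hgt⟩ := MulAction.exists_smul_eq (H.map φ.rangeRestrict) t t'
  exact ⟨⟨g, hg⟩, by rw [← hgt]; ext i; rfl⟩

namespace TriSetup

variable [Finite G] {H : Subgroup G} (S : TriSetup H Ω)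
include S

/-- Without three-elements fixing three points there are at most two colours; otherwise the degree descends. -/
theorem step {a b : Ω} (hab : a ≠ b) :
    colours H a b ≤ 2 ∨ ∃ (F : Set Ω) (G' : Subgroup (Equiv.Perm F)) (H' : Subgroup G'), H'.Normal ∧ H' ≠ ⊥ ∧
      MulAction.IsMultiplyPretransitive G' F 3 ∧ 3 ∣ Nat.card F ∧ 3 < Nat.card F ∧ Nat.card F < Nat.card Ω ∧
      colours H a b ≤ Nat.card (orbitRel.Quotient H' (Fin 3 ↪ F)) := by
  haveI := S.fin
  by_cases hr : colours H a b ≤ 2
  · exact Or.inl hr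
  obtain ⟨c0, hc0⟩ := S.exists_other a b
  let c : Others a b := ⟨c0, hc0⟩
  by_cases h3 : 3 ∣ Nat.card (H ⊓ stabilizer G (mkTriple hab c.2.2.symm c.2.1.symm) : Subgroup G)
  · exact Or.inr (S.descend hab c (by omega) h3)
  left
  letI := othersAction H a b
  have hn := S.three
  have hn2 := S.big
  have hco := S.card_others hab
  have hD : ¬ 3 ∣ Nat.card (stabTwo H a b) := by
    rw [← S.card_stabTwo hab c]
    exact fun h => (Nat.prime_three.dvd_mul.1 h).elim
      (fun h' => by have := h'.trans (Dvd.intro_left _ (S.colours_mul hab c)); omega) h3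
  have hK : ¬ 3 ∣ Nat.card (H ⊓ stabilizer G a : Subgroup G) := by
    rw [S.card_stab hab]
    exact fun h => (Nat.prime_three.dvd_mul.1 h).elim (fun h' => by omega) hD
  rcases S.point_cases hab (Or.inl hK) with h | ⟨U, K⟩
  · omega
  · rcases K.concl S hab (Or.inl hD) with h | h
    · omega
    · exact h.1

end TriSetup

theorem le_two_aux : ∀ (n : ℕ) {α : Type v} [Finite α] (G : Subgroup (Equiv.Perm α)) (H : Subgroup G) [H.Normal],
    H ≠ ⊥ → MulAction.IsMultiplyPretransitive G α 3 → Nat.card α = n → 3 ∣ n → 3 < n →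
      Nat.card (orbitRel.Quotient H (Fin 3 ↪ α)) ≤ 2 := by
  intro n
  induction n using Nat.strong_induction_on with
  | _ n ih =>
    intro α _ G H _ hne h3 hn hd hbig
    subst hn
    rcases Nat.even_or_odd (Nat.card α) with he | ho
    · have S : TriSetup H α := ⟨h3, inferInstance, hne, inferInstance, inferInstance, hd, hbig, he⟩
      obtain ⟨a, b, hab⟩ := S.exists_pair
      refine (S.card_triples hab).trans_le ?_
      rcases S.step hab with h | ⟨F, G', H', hn', hne', h3', hd', hbig', hlt, hle⟩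
      · exact h
      · haveI := hn'
        exact hle.trans (ih _ hlt G' H' hne' h3' rfl hd' hbig')
    · exact (card_le_one_of_tri (tri_of_odd h3 hd hbig ho H hne)).trans (by norm_num)

namespace TriSetup

variable [Finite G] {H : Subgroup G} (S : TriSetup H Ω)
include S

theorem colours_le_two {a b : Ω} (hab : a ≠ b) : colours H a b ≤ 2 := by
  haveI := S.fin
  rcases S.step hab with h | ⟨F, G', H', hn', hne', h3', hd', hbig', -, hle⟩
  · exact h
  · haveI := hn'
    exact hle.trans (le_two_aux _ G' H' hne' h3' rfl hd' hbig')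

/-- With two colours and degree divisible by four the point stabilizer in `H` has odd order. -/
theorem odd_stab (hn4 : Nat.card Ω % 4 = 0) {a b : Ω} (hab : a ≠ b) (hr : colours H a b = 2) :
    Odd (Nat.card (H ⊓ stabilizer G a : Subgroup G)) := by
  classical
  haveI := S.fin
  haveI := S.faithful
  haveI := Fact.mk Nat.prime_two
  by_contra hev
  set K := H ⊓ stabilizer G a with hK
  obtain ⟨x, hx⟩ := exists_prime_orderOf_dvd_card' (G := K) 2 (even_iff_two_dvd.1 (Nat.not_odd_iff_even.1 hev))
  have hx2 : ∀ z : Ω, (x : G) • (x : G) • z = z := fun z => by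
    rw [← mul_smul, ← Subgroup.coe_mul, ← pow_two, ← hx, pow_orderOf_eq_one, Subgroup.coe_one, one_smul]
  have hxa : (x : G) • a = a := (mem_inf.1 x.2).2
  obtain ⟨y, hy⟩ : ∃ y : Ω, (x : G) • y ≠ y := by
    by_contra hall
    push Not at hall
    have h1 : x = 1 := Subtype.ext (eq_of_smul_eq_smul fun z : Ω => (hall z).trans (one_smul G z).symm)
    rw [h1, orderOf_one] at hx
    omega
  have hay : a ≠ y := fun e => hy (e ▸ hxa)
  let c : Others a y := ⟨(x : G) • y, fun e => hay (smul_left_cancel (x : G) (e.trans hxa.symm)).symm, hy⟩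
  have hr' : colours H a y = 2 := by rw [← S.card_triples hay, S.card_triples hab, hr]
  letI := othersAction H a y
  have hm : 2 * Nat.card (orbit (stabTwo H a y) c) + 2 = Nat.card Ω := by
    have h1 := S.colours_mul hay c
    rw [hr'] at h1
    rw [h1, S.card_others hay]
  set O := orbit K ((y, (x : G) • y) : Ω × Ω) with hO
  have hOc : Nat.card O = (Nat.card Ω - 1) * Nat.card (orbit (stabTwo H a y) c) := by
    have h1 : Nat.card O * Nat.card (stabilizer K ((y, (x : G) • y) : Ω × Ω)) = Nat.card K := by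
      rw [← Nat.card_prod]
      exact Nat.card_congr (MulAction.orbitProdStabilizerEquivGroup K _)
    have h2 : Nat.card (stabilizer K ((y, (x : G) • y) : Ω × Ω)) =
        Nat.card (H ⊓ stabilizer G (mkTriple hay c.2.2.symm c.2.1.symm) : Subgroup G) := Nat.card_congr
      { toFun := fun g => ⟨((g : K) : G), mem_stab_triple.2 ⟨(g : K).2.1, (g : K).2.2,
          congrArg Prod.fst g.2, congrArg Prod.snd g.2⟩⟩
        invFun := fun g => ⟨⟨(g : G), (mem_stab_triple.1 g.2).1, (mem_stab_triple.1 g.2).2.1⟩,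
          Prod.ext (mem_stab_triple.1 g.2).2.2.1 (mem_stab_triple.1 g.2).2.2.2⟩
        left_inv := fun g => rfl
        right_inv := fun g => rfl }
    rw [h2, S.card_stab hay, ← S.card_stabTwo hay c, ← mul_assoc] at h1
    exact Nat.eq_of_mul_eq_mul_right Nat.card_pos h1
  have hswap : ∀ p : Ω × Ω, p ∈ O → p.swap ∈ O := by
    rintro _ ⟨k, rfl⟩
    exact ⟨k * x, Prod.ext (by show ((k : G) * x) • y = (k : G) • (x : G) • y; rw [mul_smul])
      (by show ((k : G) * x) • (x : G) • y = (k : G) • y; rw [mul_smul, hx2])⟩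
  let σ : Equiv.Perm O :=
    { toFun := fun p => ⟨p.1.swap, hswap _ p.2⟩
      invFun := fun p => ⟨p.1.swap, hswap _ p.2⟩
      left_inv := fun p => Subtype.ext (Prod.swap_swap _)
      right_inv := fun p => Subtype.ext (Prod.swap_swap _) }
  have hσ : σ ^ 2 ^ 1 = 1 := Equiv.ext fun p => Subtype.ext (Prod.swap_swap _)
  haveI := Fintype.ofFinite O
  have hO2 : ¬ 2 ∣ Fintype.card O := by
    rw [← Nat.card_eq_fintype_card, hOc]
    exact fun h => (Nat.prime_two.dvd_mul.1 h).elim (fun h' => by omega) (fun h' => by omega)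
  obtain ⟨⟨_, k, rfl⟩, hp⟩ := Equiv.Perm.exists_fixed_point_of_prime hO2 hσ
  exact hy (smul_left_cancel (k : G) (congrArg (fun q : O => (q.1).1) hp))

/-- The second assertion. -/
theorem tri_or_psl (hn4 : Nat.card Ω % 4 ≠ 2) :
    MulAction.IsMultiplyPretransitive H Ω 3 ∨ PSLNormal H Ω := by
  haveI := S.fin
  obtain ⟨a, b, hab⟩ := S.exists_pair
  rcases Nat.lt_or_ge 1 (colours H a b) with h1 | h1
  swap
  · exact Or.inl (S.tri_of_colours hab h1)
  have hr : colours H a b = 2 := le_antisymm (S.colours_le_two hab) h1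
  have ho := S.odd_stab (by obtain ⟨k, hk⟩ := S.even; omega) hab hr
  rcases S.point_cases hab (Or.inr ho) with h | ⟨U, K⟩
  · omega
  · rcases K.concl S hab (Or.inr (ho.of_dvd_nat (Dvd.intro_left _ (S.card_stab hab).symm))) with h | h
    · omega
    · exact Or.inr h.2

end TriSetup

end Cfsg.Agent.Invol.TripleNormal
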